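import Cfsg.Agent.ClassicalMax.OTensor4.Main
import Cfsg.Agent.ClassicalMax.OTensor.Bridge

/-!
The stabiliser of a decomposition `O₃ ⊗ O₄⁻` is maximal.
-/

set_option autoImplicit false
set_option linter.unusedSectionVars false
set_option linter.style.haveILetI false

namespace Cfsg.Agent.ClassicalMax.OTensor

open Module QuadraticMap Cfsg.Agent.Classical Cfsg.Agent.Classical.Quad Cfsg.Agent.ClassicalMax

variable {F : Type*} [Field F] [Fintype F] {ι : Type} [Fintype ι] [DecidableEq ι]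

/-- the stabiliser of a decomposition `O₃ ⊗ O₄⁻` is maximal -/
theorem isMaximal_three_four (Q : QuadraticForm F (ι → F)) (hQ : (polarBilin Q).Nondegenerate)
    (hodd : Odd (Fintype.card F)) (h5 : 5 ≤ Fintype.card F)
    (e : ι ≃ Fin 3 × Fin 4) (P : GL ι F) (f₁ : (Fin 3 → F) → (Fin 3 → F) → F)
    (f₂ : (Fin 4 → F) → (Fin 4 → F) → F) (hf₁ : Cfsg.Geo.IsSymmetricForm f₁) (hf₂ : Cfsg.Geo.IsSymmetricForm f₂)
    (hminus : ¬ Cfsg.Geo.IsPlusTypeOn (fun v : Fin 4 → F => f₂ v v) ⊤)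
    (hT : Cfsg.Geo.IsTensorFormStructure id (QuadraticMap.polar Q) f₁ f₂ e P) :
    Cfsg.Geo.IsMaximalIn (Cfsg.Geo.omegaGL ⇑Q)
      (Cfsg.Geo.tensorProductSubgroup 3 4 e P ⊓ Cfsg.Geo.omegaGL ⇑Q) := by
  classical
  have two : (2 : F) ≠ 0 := Ring.two_ne_zero fun h => by
    have h' := FiniteField.even_card_of_char_two h
    obtain ⟨r, hr⟩ := hodd
    omega
  have hcard : 5 ≤ Fintype.card ι := by
    rw [Fintype.card_congr e, Fintype.card_prod, Fintype.card_fin, Fintype.card_fin]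
    omega
  obtain ⟨c, hc, hform⟩ := NotMax.form_pureT id (fun _ _ => rfl) hT
    (NotMax.formOfGram_bilinear id hf₁.bilinear.add_left hf₁.bilinear.smul_left hf₁.bilinear.add_right
      fun c v x => hf₁.bilinear.smul_right c v x)
    (NotMax.formOfGram_bilinear id hf₂.bilinear.add_left hf₂.bilinear.smul_left hf₂.bilinear.add_right
      fun c v x => hf₂.bilinear.smul_right c v x)
  have hmem := mem_iff e P (by omega : 1 ≤ 3) (by omega : 1 ≤ 4)
  have hlift : ∀ (a : (Fin 3 → F) ≃ₗ[F] (Fin 3 → F)) (b : (Fin 4 → F) ≃ₗ[F] (Fin 4 → F)),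
      ∃ g : (ι → F) ≃ₗ[F] (ι → F), ∀ x y, g (NotMax.pureT e P x y) = NotMax.pureT e P (a x) (b y) := fun a b => by
    obtain ⟨G, -, hG⟩ := SpThree.exists_of_pair e P ((glEquiv (Fin 3) F).symm a) ((glEquiv (Fin 4) F).symm b)
    refine ⟨glEquiv ι F G, fun x y => ?_⟩
    rw [← symm_mulVec (glEquiv ι F G), MulEquiv.symm_apply_apply, hG, symm_mulVec, symm_mulVec]
  obtain ⟨QU, hU, hQU⟩ := exists_quad two hf₁ hc
  obtain ⟨QW, hW, hQW⟩ := exists_quad two hf₂ (one_ne_zero (α := F))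
  have hF : Frame4 Q QU QW (NotMax.pureT e P) :=
    { two := two
      nd := hQ
      ndU := hU
      ndW := hW
      prod := fun u w u' w' => by rw [hform, hQU, hQW]; ring
      span := SpThree.span_pureT e P
      lift := hlift
      q5 := by rwa [Nat.card_eq_fintype_card]
      dimU := Module.finrank_fin_fun F
      dimW := Module.finrank_fin_fun F
      ellW := fun p y hp hy hpy hp0 => ell_of two hW (one_ne_zero (α := F)) hQW (fun _ => hminus)
        (Module.finrank_fin_fun F).le p y hp hy hpy hp0 }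
  refine RootPlanes.isMaximalIn_omega Q hQ hcard _ ?_ fun H hH g hg hgK => ?_
  · obtain ⟨g, hg, hN⟩ := hF.exists_not_inN
    exact ⟨g, hg, fun h => hN ((hmem _).1 h)⟩
  · have hO : Over (NotMax.pureT e P) H := fun k hk hN => hH k hk ((hmem _).2 hN)
    by_contra hne
    exact hgK ((hmem _).2 (hF.inN hne hO hg))

end Cfsg.Agent.ClassicalMax.OTensor
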