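import Cfsg.Agent.ClassicalMax.OTensor4.Torus

/-!
`O₃ ⊗ O₄⁻`: an element preserving the decomposition and conjugate to `-r ⊗ 1` is of the same shape.
-/

set_option autoImplicit false
set_option linter.unusedSectionVars false
set_option linter.style.haveILetI false

namespace Cfsg.Agent.ClassicalMax.OTensor

open Module QuadraticMap Cfsg.Agent.Classical Cfsg.Agent.Classical.Quad Cfsg.Agent.ClassicalMax

section Linear

variable {F X : Type*} [Field F] [AddCommGroup X] [Module F X]

/-- the fixed vectors of a map diagonal in a basis with entries `±1` -/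
theorem finrank_fixed_of_diag {ι : Type*} [Fintype ι] [DecidableEq ι] (b : Basis ι F X) (ε : ι → F) [DecidableEq F]
    {g : X →ₗ[F] X} (hg : ∀ i, g (b i) = ε i • b i) :
    finrank F (LinearMap.eqLocus g LinearMap.id) = (Finset.univ.filter fun i => ε i = 1).card := by
  have key : LinearMap.eqLocus g LinearMap.id =
      Submodule.span F (Set.range fun i : {i // ε i = 1} => b i) := by
    refine le_antisymm (fun x hx => ?_) (Submodule.span_le.2 ?_)
    · have hx' : g x = x := hx
      rw [← b.sum_repr x]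
      refine Submodule.sum_mem _ fun i _ => ?_
      by_cases hi : ε i = 1
      · exact Submodule.smul_mem _ _ (Submodule.subset_span ⟨⟨i, hi⟩, rfl⟩)
      · have h : b.repr (g x) i = ε i * b.repr x i := by
          conv_lhs => rw [← b.sum_repr x]
          simp only [map_sum, map_smul, hg, Basis.repr_self, Finsupp.coe_finsetSum, Finset.sum_apply,
            Finsupp.coe_smul, Pi.smul_apply, smul_eq_mul, Finsupp.single_apply]
          rw [Finset.sum_eq_single i (fun j _ hj => by simp [hj]) (fun h => absurd (Finset.mem_univ i) h)]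
          simp [mul_comm]
        rw [hx'] at h
        have : b.repr x i = 0 := by
          have h' : (ε i - 1) * b.repr x i = 0 := by linear_combination -h
          exact (mul_eq_zero.1 h').resolve_left (sub_ne_zero.2 hi)
        rw [this, zero_smul]
        exact Submodule.zero_mem _
    · rintro _ ⟨i, rfl⟩
      show g (b i) = b i
      rw [hg, i.2, one_smul]
  rw [key, finrank_span_eq_card (R := F) (b := fun i : {i // ε i = 1} => b i)
    (b.linearIndependent.comp _ Subtype.val_injective), Fintype.card_subtype]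

/-- an involution has an eigenbasis -/
theorem exists_eigenbasis (h2 : (2 : F) ≠ 0) [FiniteDimensional F X] {a : X →ₗ[F] X} (ha : ∀ x, a (a x) = x) :
    ∃ b : Basis (Fin (finrank F (LinearMap.eqLocus a LinearMap.id)) ⊕
        Fin (finrank F (LinearMap.eqLocus a (-LinearMap.id)))) F X,
      ∀ i, a (b i) = (Sum.elim (fun _ => (1 : F)) (fun _ => -1) i) • b i := by
  set P := LinearMap.eqLocus a LinearMap.id
  set N := LinearMap.eqLocus a (-LinearMap.id)
  have hc : IsCompl P N := by
    refine ⟨Submodule.disjoint_def.2 fun x hx hx' => ?_, codisjoint_iff.2 (Submodule.eq_top_iff'.2 fun x => ?_)⟩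
    · have h1 : a x = x := hx
      have h3 : a x = -x := hx'
      rw [h1] at h3
      have : (2 : F) • x = 0 := by rw [two_smul]; exact add_eq_zero_iff_eq_neg.2 h3
      exact (smul_eq_zero.1 this).resolve_left h2
    · rw [Submodule.mem_sup]
      refine ⟨(2 : F)⁻¹ • (x + a x), ?_, (2 : F)⁻¹ • (x - a x), ?_, ?_⟩
      · show a _ = _
        rw [map_smul, map_add, ha, add_comm, LinearMap.id_apply]
      · show a _ = _
        rw [map_smul, map_sub, ha, LinearMap.neg_apply, LinearMap.id_apply, ← smul_neg, neg_sub]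
      · rw [← smul_add, add_add_sub_cancel, ← two_smul F x, inv_smul_smul₀ h2]
  refine ⟨((Module.finBasis F P).prod (Module.finBasis F N)).map (Submodule.prodEquivOfIsCompl P N hc), fun i => ?_⟩
  rcases i with i | i
  · have h : a ((Module.finBasis F P i : P) : X) = ((Module.finBasis F P i : P) : X) := (Module.finBasis F P i).2
    simpa using h
  · have h : a ((Module.finBasis F N i : N) : X) = -((Module.finBasis F N i : N) : X) := (Module.finBasis F N i).2
    simpa using h

end Linear

variable {F U W V : Type*} [Field F] [Finite F] [AddCommGroup U] [Module F U] [FiniteDimensional F U]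
  [AddCommGroup W] [Module F W] [FiniteDimensional F W] [AddCommGroup V] [Module F V] [FiniteDimensional F V]
  {Q : QuadraticForm F V} {QU : QuadraticForm F U} {QW : QuadraticForm F W} {pt : U →ₗ[F] W →ₗ[F] V}

namespace Frame4

variable (hF : Frame4 Q QU QW pt)
include hF

/-- the fixed vectors of a pair of involutions -/
theorem finrank_fixed {g : oG Q} {a : U →ₗ[F] U} {b : W →ₗ[F] W} (hg : ∀ x y, g.1 (pt x y) = pt (a x) (b y))
    (ha : ∀ x, a (a x) = x) (hb : ∀ y, b (b y) = y) :
    finrank F (fixSub g) =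
      finrank F (LinearMap.eqLocus a LinearMap.id) * finrank F (LinearMap.eqLocus b LinearMap.id) +
      finrank F (LinearMap.eqLocus a (-LinearMap.id)) * finrank F (LinearMap.eqLocus b (-LinearMap.id)) := by
  classical
  obtain ⟨bU, hU⟩ := exists_eigenbasis hF.two ha
  obtain ⟨bW, hW⟩ := exists_eigenbasis hF.two hb
  have hli : LinearIndependent F fun k : (_ × _) => pt (bU k.1) (bW k.2) := by
    rw [Fintype.linearIndependent_iff]
    intro G hG
    rintro ⟨i, j⟩
    let w := (LinearMap.BilinForm.toDual (polarBilin QW) hF.ndW).symm (bW.coord j)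
    have hw : ∀ y, polar QW w y = bW.coord j y := fun y => by
      show polarBilin QW w y = _
      simp only [w, LinearMap.BilinForm.apply_toDual_symm_apply]
    have h := congrArg (hF.pW w) hG
    simp only [map_sum, map_smul, hF.pW_pt, map_zero, hw, Basis.coord_apply, Basis.repr_self,
      Finsupp.single_apply, ite_smul, one_smul, zero_smul, smul_ite, smul_zero, Fintype.sum_prod_type,
      Finset.sum_ite_eq', Finset.mem_univ, if_true] at h
    exact Fintype.linearIndependent_iff.1 bU.linearIndependent _ h i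
  have hsp : ⊤ ≤ Submodule.span F (Set.range fun k : (_ × _) => pt (bU k.1) (bW k.2)) := by
    rw [← hF.span, Submodule.span_le]
    rintro _ ⟨⟨x, y⟩, rfl⟩
    show pt x y ∈ _
    rw [← bU.sum_repr x, ← bW.sum_repr y]
    simp only [map_sum, map_smul, LinearMap.sum_apply, LinearMap.smul_apply]
    exact Submodule.sum_mem _ fun i _ => Submodule.smul_mem _ _ (Submodule.sum_mem _ fun j _ =>
      Submodule.smul_mem _ _ (Submodule.subset_span ⟨(j, i), rfl⟩))
  rw [fixSub, finrank_fixed_of_diag (Basis.mk hli hsp)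
    (fun k => Sum.elim (fun _ => (1 : F)) (fun _ => -1) k.1 * Sum.elim (fun _ => (1 : F)) (fun _ => -1) k.2)
    fun k => by
      rw [Basis.mk_apply]
      show g.1 (pt (bU k.1) (bW k.2)) = _
      rw [hg, hU, hW, map_smul, map_smul pt, LinearMap.smul_apply, smul_smul, mul_comm]]
  have h1 : (-1 : F) ≠ 1 := fun e => hF.two (by linear_combination -e)
  rw [Finset.card_filter]
  simp only [Fintype.sum_prod_type, Fintype.sum_sum_type, Sum.elim_inl, Sum.elim_inr, mul_one, one_mul, neg_mul,
    neg_neg, if_true, h1, if_false, Finset.sum_const, Finset.card_univ, Fintype.card_fin, smul_eq_mul, mul_zero, add_zero,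
    zero_add]

/-- the identity and the fixed vectors of `-r ⊗ 1` -/
theorem finrank_fixed_rho {u : U} (hu : QU u ≠ 0) : finrank F (fixSub (hF.lp (rho hu, 1))) = 4 := by
  have key : fixSub (hF.lp (rho hu, 1)) = LinearMap.range (pt u) := by
    ext z
    rw [mem_fixSub, LinearMap.mem_range]
    refine ⟨fun h => (hF.rho_fixed hu h).imp fun w hw => hw.symm, ?_⟩
    rintro ⟨w, rfl⟩
    rw [hF.lp_pt, oG_one_apply, rho_apply, polar_self', mul_div_assoc, div_self hu, mul_one, two_smul,
      add_sub_cancel_right]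
  rw [key, LinearMap.finrank_range_of_inj fun w w' e => hF.pure_injW hu e, hF.dimW]

theorem finrank_fixed_conj (h g : oG Q) : finrank F (fixSub (h * g * h⁻¹)) = finrank F (fixSub g) := by
  have key : fixSub (h * g * h⁻¹) = (fixSub g).map (h.1 : V →ₗ[F] V) := by
    ext z
    rw [mem_fixSub, Submodule.mem_map]
    constructor
    · intro hz
      exact ⟨(h⁻¹).1 z, h.1.injective (hz.trans (oG_apply_inv h z).symm),
        oG_apply_inv h z⟩
    · rintro ⟨y, hy, rfl⟩
      show (h * g * h⁻¹).1 (h.1 y) = h.1 y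
      rw [oG_mul_apply, oG_mul_apply, oG_inv_apply, mem_fixSub.1 hy]
  rw [key]
  exact LinearEquiv.finrank_map_eq h.1 _

/-- the classification of the conjugates that preserve the decomposition -/
theorem eq_rho {g h : oG Q} {u : U} (hu : QU u ≠ 0) (hg : InN pt g.1) (hc : g = h * hF.lp (rho hu, 1) * h⁻¹) :
    ∃ (u' : U) (hu' : QU u' ≠ 0), g = hF.lp (rho hu', 1) := by
  classical
  have h2 := hF.two
  obtain ⟨e, he⟩ := hF.exists_orth4
  set e₀ := e 0
  have he₀ : QW e₀ ≠ 0 := he.aniso 0
  obtain ⟨a, b, hab⟩ := hg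
  have hgg : ∀ z, g.1 (g.1 z) = z := fun z => by
    have : g * g = 1 := by
      rw [hc, show h * hF.lp (rho hu, 1) * h⁻¹ * (h * hF.lp (rho hu, 1) * h⁻¹) =
        h * (hF.lp (rho hu, 1) * hF.lp (rho hu, 1)) * h⁻¹ by group, ← map_mul, Prod.mk_mul_mk, rho_mul_self,
        one_mul, ← Prod.one_eq_mk, map_one, mul_one, mul_inv_cancel]
    rw [← oG_mul_apply, this, oG_one_apply]
  have hfix : finrank F (fixSub g) = 4 := by rw [hc, hF.finrank_fixed_conj, hF.finrank_fixed_rho]
  have hsq : ∀ x y, pt (a (a x)) (b (b y)) = pt x y := fun x y => by rw [← hab, ← hab, hgg]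
  have hu2 : polar QU u u ≠ 0 := by rw [polar_self']; exact mul_ne_zero h2 hu
  -- the scalars
  set ν := polar QU u (a (a u)) with hν
  have hb2 : ∀ y, ν • b (b y) = polar QU u u • y := fun y => by
    have h := congrArg (hF.pU u) (hsq u y)
    rwa [hF.pU_pt, hF.pU_pt] at h
  set μ := polar QW e₀ (b (b e₀)) with hμ
  have ha2 : ∀ x, μ • a (a x) = polar QW e₀ e₀ • x := fun x => by
    have h := congrArg (hF.pW e₀) (hsq x e₀)
    rwa [hF.pW_pt, hF.pW_pt] at h
  have hν0 : ν ≠ 0 := fun h0 => by
    have h := hb2 e₀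
    rw [h0, zero_smul, eq_comm, smul_eq_zero] at h
    exact he₀ (by rw [h.resolve_left hu2, QuadraticMap.map_zero])
  have hμ0 : μ ≠ 0 := fun h0 => by
    have h := ha2 u
    rw [h0, zero_smul, eq_comm, smul_eq_zero, polar_self', mul_eq_zero] at h
    exact hu (by rw [h.resolve_left (by push Not; exact ⟨h2, he₀⟩), QuadraticMap.map_zero])
  set κ := μ⁻¹ * polar QW e₀ e₀ with hκd
  have haκ : a ∘ₗ a = κ • LinearMap.id := LinearMap.ext fun x => by
    rw [LinearMap.comp_apply, LinearMap.smul_apply, LinearMap.id_apply, hκd, mul_smul, ← ha2, inv_smul_smul₀ hμ0]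
  have hκ0 : κ ≠ 0 := mul_ne_zero (inv_ne_zero hμ0) (by rw [polar_self']; exact mul_ne_zero h2 he₀)
  set d := LinearMap.det a with hd
  have hdd : d * d = κ ^ 3 := by
    rw [hd, ← LinearMap.det_comp, haκ, LinearMap.det_smul, LinearMap.det_id, mul_one, hF.dimU]
  have hd0 : d ≠ 0 := fun h0 => pow_ne_zero 3 hκ0 (by rw [← hdd, h0, mul_zero])
  -- normalise
  set r := κ / d with hrd
  have hr0 : r ≠ 0 := div_ne_zero hκ0 hd0
  have hr : r * r * κ = 1 := by
    rw [hrd]
    field_simp
    linear_combination -hdd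
  set a₁ := r • a with ha₁
  set b₁ := r⁻¹ • b with hb₁
  have hab₁ : ∀ x y, g.1 (pt x y) = pt (a₁ x) (b₁ y) := fun x y => by
    rw [hab, ha₁, hb₁, LinearMap.smul_apply, LinearMap.smul_apply, map_smul pt, LinearMap.smul_apply, map_smul,
      smul_smul, mul_inv_cancel₀ hr0, one_smul]
  have haa : ∀ x, a₁ (a₁ x) = x := fun x => by
    have h := LinearMap.congr_fun haκ x
    simp only [LinearMap.comp_apply, LinearMap.smul_apply, LinearMap.id_apply] at h
    rw [ha₁, LinearMap.smul_apply, LinearMap.smul_apply, map_smul, smul_smul, h, smul_smul, hr, one_smul]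
  have hbb : ∀ y, b₁ (b₁ y) = y := fun y => by
    have h := hgg (pt u y)
    rw [hab₁, hab₁, haa] at h
    exact hF.pure_injW hu h
  -- the factor
  have hp : ∀ x x' y y', polar QU (a₁ x) (a₁ x') * polar QW (b₁ y) (b₁ y') = polar QU x x' * polar QW y y' :=
    fun x x' y y' => by rw [← hF.prod, ← hab₁, ← hab₁, polar_oG, hF.prod]
  have hl0 : polar QW (b₁ e₀) (b₁ e₀) ≠ 0 := fun h0 => by
    have h := hp u u e₀ e₀
    rw [h0, mul_zero, eq_comm, mul_eq_zero, polar_self', polar_self', mul_eq_zero, mul_eq_zero] at h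
    simp [h2, hu, he₀] at h
  set l := polar QW e₀ e₀ / polar QW (b₁ e₀) (b₁ e₀) with hld
  have hal : ∀ x x', polar QU (a₁ x) (a₁ x') = l * polar QU x x' := fun x x' => by
    rw [hld, div_mul_eq_mul_div, eq_div_iff hl0, hp x x' e₀ e₀, mul_comm]
  have hll : l * l = 1 := by
    have h := hal (a₁ u) (a₁ u)
    rw [haa, hal] at h
    exact (mul_left_eq_self₀.1 (show (l * l) * polar QU u u = polar QU u u by rw [mul_assoc, ← h])).resolve_right hu2
  set Up := LinearMap.eqLocus a₁ LinearMap.id with hUp
  set Um := LinearMap.eqLocus a₁ (-LinearMap.id) with hUm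
  obtain ⟨bU, -⟩ := exists_eigenbasis h2 haa
  obtain ⟨bW, -⟩ := exists_eigenbasis h2 hbb
  have hsum : finrank F Up + finrank F Um = 3 := by
    rw [← hF.dimU, finrank_eq_card_basis bU, Fintype.card_sum, Fintype.card_fin, Fintype.card_fin]
  have hsumW : finrank F (LinearMap.eqLocus b₁ LinearMap.id) + finrank F (LinearMap.eqLocus b₁ (-LinearMap.id)) = 4 := by
    rw [← hF.dimW, finrank_eq_card_basis bW, Fintype.card_sum, Fintype.card_fin, Fintype.card_fin]
  have hl1 : l = 1 := by
    rcases mul_self_eq_one_iff.1 hll with h | h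
    · exact h
    exfalso
    have key : ∀ {S : Submodule F U} {ε : F}, ε * ε = 1 → (∀ x ∈ S, a₁ x = ε • x) → 2 * finrank F S ≤ 3 := by
      intro S ε hε hS
      refine hF.dimU ▸ two_mul_finrank_le hF.ndU fun x hx => ?_
      have h' := hal x x
      rw [hS x hx, h, polar_smul_left, polar_smul_right, smul_eq_mul, smul_eq_mul, ← mul_assoc, hε, polar_self'] at h'
      have : (4 : F) * QU x = 0 := by linear_combination h'
      exact (mul_eq_zero.1 this).resolve_left (by rw [show (4 : F) = 2 * 2 by norm_num]; exact mul_ne_zero h2 h2)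
    have k1 := key (S := Up) (one_mul 1) fun x hx => by rw [one_smul]; exact hx
    have k2 := key (S := Um) (neg_one_mul (-1 : F) |>.trans (neg_neg 1)) fun x hx => by
      rw [neg_one_smul]; exact hx
    omega
  have hiso : ∀ x x', polar QU (a₁ x) (a₁ x') = polar QU x x' := fun x x' => by rw [hal, hl1, one_mul]
  have hdim := hF.finrank_fixed hab₁ haa hbb
  rw [hfix] at hdim
  -- finish with one eigenline
  have finish : ∀ (a' : U →ₗ[F] U) (b' : W →ₗ[F] W), (∀ x y, g.1 (pt x y) = pt (a' x) (b' y)) →
      (∀ x, a' (a' x) = x) → (∀ x x', polar QU (a' x) (a' x') = polar QU x x') → (∀ y, b' y = y) →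
      finrank F (LinearMap.eqLocus a' LinearMap.id) = 1 → ∃ (u' : U) (hu' : QU u' ≠ 0), g = hF.lp (rho hu', 1) := by
    intro a' b' hg' ha' hi' hb' h1
    obtain ⟨⟨u', hu'⟩, hu0, hgen⟩ := finrank_eq_one_iff'.1 h1
    have hu'' : a' u' = u' := hu'
    have hperp : ∀ x, a' x = -x → polar QU u' x = 0 := fun x hx => by
      have h := hi' u' x
      rw [hu'', hx, polar_neg_right] at h
      exact (mul_eq_zero.1 (show (2 : F) * polar QU u' x = 0 by linear_combination -h)).resolve_left h2
    have hdec : ∀ x, ∃ t : F, (2 : F)⁻¹ • (x + a' x) = t • u' := fun x => by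
      obtain ⟨t, ht⟩ := hgen ⟨(2 : F)⁻¹ • (x + a' x), by
        show a' _ = _; rw [map_smul, map_add, ha', add_comm, LinearMap.id_apply]⟩
      exact ⟨t, (congrArg Subtype.val ht).symm⟩
    have hpol : ∀ x, polar QU u' x = polar QU u' ((2 : F)⁻¹ • (x + a' x)) := fun x => by
      have h := hperp ((2 : F)⁻¹ • (x - a' x)) (by rw [map_smul, map_sub, ha', ← smul_neg, neg_sub])
      rw [← sub_eq_zero, ← polar_sub_right]
      rwa [show x - (2 : F)⁻¹ • (x + a' x) = (2 : F)⁻¹ • (x - a' x) by match_scalars <;> field_simp <;> ring]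
    have hq' : QU u' ≠ 0 := fun h0 => hu0 (Subtype.ext (hF.eqU fun x => by
      obtain ⟨t, ht⟩ := hdec x
      show polar QU u' x = polar QU ((0 : _) : U) x
      rw [hpol, ht, polar_smul_right, polar_self', h0, mul_zero, smul_zero]
      simp))
    refine ⟨u', hq', ext_oG fun z => LinearMap.congr_fun (f := g.1.toLinearMap)
      (g := (hF.lp (rho hq', 1)).1.toLinearMap) (hF.ext_pure fun x y => ?_) z⟩
    obtain ⟨t, ht⟩ := hdec x
    rw [LinearEquiv.coe_coe, LinearEquiv.coe_coe, hF.lp_pt, oG_one_apply, hg', hb', rho_apply]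
    congr 2
    rw [polar_comm QU x u', hpol, ht, polar_smul_right, polar_self', smul_eq_mul,
      show t * (2 * QU u') / QU u' = 2 * t by field_simp, mul_smul, ← ht, smul_inv_smul₀ h2, add_sub_cancel_left]
  have hne : (-1 : F) ≠ 1 := fun e => h2 (by linear_combination -e)
  have hb_of : ∀ (S : W →ₗ[F] W), (∀ y, S (S y) = y) → finrank F (LinearMap.eqLocus S (-LinearMap.id)) = 0 →
      ∀ y, S y = y := fun S hS h0 y => by
    have : S y - y ∈ LinearMap.eqLocus S (-LinearMap.id) := by
      show S _ = _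
      rw [map_sub, hS, LinearMap.neg_apply, LinearMap.id_apply, neg_sub]
    rw [Submodule.finrank_eq_zero.1 h0, Submodule.mem_bot, sub_eq_zero] at this
    exact this
  have hd3 : finrank F Up ≤ 3 := by omega
  have he4 : finrank F (LinearMap.eqLocus b₁ LinearMap.id) ≤ 4 := by omega
  set dp := finrank F Up
  set ep := finrank F (LinearMap.eqLocus b₁ LinearMap.id) with hep
  have hcase : (dp = 1 ∧ finrank F (LinearMap.eqLocus b₁ (-LinearMap.id)) = 0) ∨ (finrank F Um = 1 ∧ ep = 0) := by
    have f1 : finrank F Um = 3 - dp := by omega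
    have f2 : finrank F (LinearMap.eqLocus b₁ (-LinearMap.id)) = 4 - ep := by omega
    rw [f1, f2] at hdim ⊢
    clear_value dp ep
    interval_cases dp <;> interval_cases ep <;> omega
  rcases hcase with ⟨hd1, he0⟩ | ⟨hd1, he0⟩
  · exact finish a₁ b₁ hab₁ haa hiso (hb_of b₁ hbb he0) hd1
  · refine finish (-a₁) (-b₁) (fun x y => ?_) (fun x => ?_) (fun x x' => ?_) (hb_of (-b₁) (fun y => ?_) ?_) ?_
    · rw [LinearMap.neg_apply, LinearMap.neg_apply, map_neg pt, LinearMap.neg_apply, map_neg, neg_neg, hab₁]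
    · rw [LinearMap.neg_apply, LinearMap.neg_apply, map_neg, neg_neg, haa]
    · rw [LinearMap.neg_apply, LinearMap.neg_apply, polar_neg_left, polar_neg_right, neg_neg, hiso]
    · rw [LinearMap.neg_apply, LinearMap.neg_apply, map_neg, neg_neg, hbb]
    · rw [show LinearMap.eqLocus (-b₁) (-LinearMap.id) = LinearMap.eqLocus b₁ LinearMap.id from
        Submodule.ext fun y => (neg_inj : -b₁ y = -y ↔ b₁ y = y)]
      exact hep ▸ he0
    · rw [show LinearMap.eqLocus (-a₁) LinearMap.id = Um from
        Submodule.ext fun x => (neg_eq_iff_eq_neg : -a₁ x = x ↔ a₁ x = -x)]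
      exact hd1

end Frame4

end Cfsg.Agent.ClassicalMax.OTensor
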