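import Cfsg.Agent.ClassicalMax.OTensor4.Class

/-!
`O₃ ⊗ O₄⁻`: an overgroup of the stabiliser without all Siegel transformations preserves the decomposition.
-/

set_option autoImplicit false
set_option linter.unusedSectionVars false
set_option linter.style.haveILetI false

namespace Cfsg.Agent.ClassicalMax.OTensor

open Module QuadraticMap Cfsg.Agent.Classical Cfsg.Agent.Classical.Quad Cfsg.Agent.ClassicalMax

/-- of two involutions, either they are conjugate in their group or a central involution is a product -/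
theorem dihedral_cases {G : Type*} [Group G] [Finite G] {t j : G} (ht : t * t = 1) (hj : j * j = 1) :
    (∃ g ∈ Subgroup.closure ({t, j} : Set G), g * t * g⁻¹ = j) ∨
      ∃ z, z ≠ 1 ∧ Commute z t ∧ Commute z j ∧
        ∃ g ∈ Subgroup.closure ({t, j} : Set G), t * z = g * t * g⁻¹ ∨ t * z = g * j * g⁻¹ := by
  have htm : t ∈ Subgroup.closure ({t, j} : Set G) := Subgroup.subset_closure (Set.mem_insert _ _)
  have hjm : j ∈ Subgroup.closure ({t, j} : Set G) := Subgroup.subset_closure (Set.mem_insert_of_mem _ rfl)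
  set d := t * j with hd
  have hdm : d ∈ Subgroup.closure ({t, j} : Set G) := mul_mem htm hjm
  have ti : t⁻¹ = t := inv_eq_of_mul_eq_one_right ht
  have ji : j⁻¹ = j := inv_eq_of_mul_eq_one_right hj
  have htd : ∀ n : ℕ, t * d ^ n = (d ^ n)⁻¹ * t := fun n => by
    have h1 : t * d * t⁻¹ = d⁻¹ := by rw [hd, mul_inv_rev, ti, ji, ← mul_assoc t t, ht, one_mul]
    have h2 := conj_pow (a := t) (b := d) (i := n)
    rw [h1, inv_pow] at h2
    rw [h2, mul_assoc, inv_mul_cancel, mul_one]
  have hjd : t * d = j := by rw [hd, ← mul_assoc, ht, one_mul]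
  have ho := pow_orderOf_eq_one d
  rcases Nat.even_or_odd' (orderOf d) with ⟨m, hm | hm⟩
  · right
    have hmpos : 0 < m := by have := orderOf_pos d; omega
    refine ⟨d ^ m, pow_ne_one_of_lt_orderOf (by omega) (by omega), ?_⟩
    have hself : (d ^ m)⁻¹ = d ^ m := inv_eq_of_mul_eq_one_right (by rw [← pow_add, ← two_mul, ← hm, ho])
    have hzt : Commute (d ^ m) t := by
      show d ^ m * t = t * d ^ m
      rw [htd, hself]
    have hzd : Commute (d ^ m) d := (Commute.refl d).pow_left m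
    refine ⟨hzt, hjd ▸ hzt.mul_right hzd, ?_⟩
    rcases Nat.even_or_odd' m with ⟨k, hk | hk⟩
    · refine ⟨(d ^ k)⁻¹, inv_mem (pow_mem hdm k), Or.inl ?_⟩
      rw [inv_inv, hk, two_mul, pow_add, ← mul_assoc, htd]
    · refine ⟨(d ^ k)⁻¹, inv_mem (pow_mem hdm k), Or.inr ?_⟩
      rw [inv_inv, hk, two_mul, add_assoc, pow_add, ← mul_assoc, htd, pow_succ', mul_assoc, ← mul_assoc t d,
        hjd, ← mul_assoc]
  · left
    refine ⟨d ^ m, pow_mem hdm m, ?_⟩
    have e : (d ^ m * d ^ m) = d⁻¹ := eq_inv_of_mul_eq_one_left (by rw [← pow_add, ← pow_succ, ← two_mul, ← hm, ho])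
    rw [mul_assoc, show t * (d ^ m)⁻¹ = d ^ m * t by
      rw [← mul_one (t * (d ^ m)⁻¹), ← ht, ← mul_assoc, mul_assoc t _ t, ← htd m, ← mul_assoc t t, ht,
        one_mul], ← mul_assoc, e, hd, mul_inv_rev, ti, ji, mul_assoc, ht, mul_one]

variable {F U W V : Type*} [Field F] [Finite F] [AddCommGroup U] [Module F U] [FiniteDimensional F U]
  [AddCommGroup W] [Module F W] [FiniteDimensional F W] [AddCommGroup V] [Module F V] [FiniteDimensional F V]
  {Q : QuadraticForm F V} {QU : QuadraticForm F U} {QW : QuadraticForm F W} {pt : U →ₗ[F] W →ₗ[F] V}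
  {H : Subgroup (oG Q)}

theorem rho_inj (h2 : (2 : F) ≠ 0) {u u' : U} {hu : QU u ≠ 0} {hu' : QU u' ≠ 0} (h : rho hu = rho hu') :
    u' ∈ F ∙ u := by
  have h1 := congrArg (fun g : oG QU => g.1 u') h
  simp only [rho_apply, polar_self', mul_div_assoc, div_self hu', mul_one] at h1
  refine Submodule.mem_span_singleton.2 ⟨(2 : F)⁻¹ * (polar QU u' u / QU u), ?_⟩
  rw [mul_smul, sub_eq_iff_eq_add.1 h1, two_smul, add_sub_cancel_right, ← two_smul F u', inv_smul_smul₀ h2]

namespace Frame4

variable (hF : Frame4 Q QU QW pt)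
include hF

theorem rho_sq {u : U} (hu : QU u ≠ 0) : hF.lp (rho hu, 1) * hF.lp (rho hu, 1) = 1 := by
  rw [← map_mul, Prod.mk_mul_mk, rho_mul_self, one_mul, ← Prod.one_eq_mk, map_one]

theorem t_mem (hO : Over pt H) {u : U} (hu : QU u ≠ 0) : hF.lp (rho hu, 1) ∈ H :=
  hO _ (hF.lp_rho_mem hu) (hF.lp_inN _ _)

/-- commuting involutions of this shape come from orthogonal vectors -/
theorem rho_commute {u u' : U} (hu : QU u ≠ 0) (hu' : QU u' ≠ 0) (h : Commute (rho hu) (rho hu')) :
    u' ∈ F ∙ u ∨ polar QU u u' = 0 := by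
  have h1 := rho_conj (rho hu) hu'
  rw [h.eq, mul_inv_cancel_right] at h1
  have h3 := rho_inj hF.two h1
  rw [rho_apply] at h3
  obtain ⟨r, hr⟩ := Submodule.mem_span_singleton.1 h3
  rcases eq_or_ne (polar QU u u') 0 with e | e
  · exact Or.inr e
  refine Or.inl (Submodule.mem_span_singleton.2 ⟨?_, ?_⟩)
  · exact (r + 1)⁻¹ * (polar QU u' u / QU u)
  · have e' : polar QU u' u / QU u ≠ 0 := div_ne_zero (by rwa [polar_comm]) hu
    have hr1 : r + 1 ≠ 0 := fun h0 => by
      have h4 : (polar QU u' u / QU u) • u = 0 := by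
        rw [← sub_add_cancel ((polar QU u' u / QU u) • u) u', ← hr]
        have : r = -1 := eq_neg_of_add_eq_zero_left h0
        rw [this, neg_one_smul, neg_add_cancel]
      exact hu (by rw [(smul_eq_zero.1 h4).resolve_left e', QuadraticMap.map_zero])
    rw [mul_smul, eq_comm, eq_inv_smul_iff₀ hr1, add_smul, one_smul, hr, sub_add_cancel]

theorem rho_prod {u u' x : U} (hO : Orth3 QU u u' x) : rho hO.hu * rho hO.hx = rho hO.hy := ext_oG fun z => by
  rw [oG_mul_apply, rho_apply, rho_apply, rho_apply, polar_sub_left, polar_smul_left, polar_comm QU u' u, hO.ux,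
    smul_zero, zero_sub]
  have h2 := hF.two
  have := hO.hu; have := hO.hx; have := hO.hy
  conv_lhs => enter [2, 2]; rw [hO.expand z]
  conv_rhs => enter [2]; rw [hO.expand z]
  match_scalars <;> field_simp <;> ring

/-- an element conjugating all the involutions into the decomposition preserves it -/
theorem inN_of_forall {h : oG Q}
    (hall : ∀ (u : U) (hu : QU u ≠ 0), InN pt (h * hF.lp (rho hu, 1) * h⁻¹).1) : InN pt h.1 := by
  have h2 := hF.two
  have himg : ∀ (u : U), QU u ≠ 0 → ∃ (u' : U) (b : W →ₗ[F] W), QU u' ≠ 0 ∧ Function.Injective b ∧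
      ∀ w, h.1 (pt u w) = pt u' (b w) := by
    intro u hu
    obtain ⟨u', hu', e⟩ := hF.eq_rho hu (hall u hu) rfl
    refine ⟨u', (2 * QU u')⁻¹ • (hF.pU u' ∘ₗ h.1.toLinearMap ∘ₗ pt u), hu', ?_⟩
    have hw : ∀ w, h.1 (pt u w) = pt u' (((2 * QU u')⁻¹ • (hF.pU u' ∘ₗ h.1.toLinearMap ∘ₗ pt u)) w) := by
      intro w
      obtain ⟨w', hw'⟩ := hF.rho_fixed hu' (z := h.1 (pt u w)) (by
        rw [← e, oG_mul_apply, oG_mul_apply, oG_inv_apply, hF.lp_pt, oG_one_apply, rho_apply, polar_self',
          mul_div_assoc, div_self hu, mul_one, two_smul, add_sub_cancel_right])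
      show h.1 (pt u w) = pt u' ((2 * QU u')⁻¹ • hF.pU u' (h.1 (pt u w)))
      rw [hw', hF.pU_pt, polar_self', inv_smul_smul₀ (mul_ne_zero h2 hu')]
    exact ⟨fun w w' he => hF.pure_injW hu (h.1.injective (by rw [hw, hw, he])), hw⟩
  obtain ⟨u₀, hu₀⟩ := exists_aniso hF.ndU (by rw [hF.dimU]; omega)
  obtain ⟨x₀, y₀, hO⟩ := hF.exists_orth3 hu₀
  obtain ⟨u', b, hu', hb, hub⟩ := himg u₀ hu₀
  have hbsur := LinearMap.injective_iff_surjective.1 hb
  have other : ∀ (x : U), QU x ≠ 0 → polar QU u₀ x = 0 → ∃ x' : U, ∀ w, h.1 (pt x w) = pt x' (b w) := by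
    intro x hx hux
    obtain ⟨x', b₂, hx', hb₂, hxb⟩ := himg x hx
    have hb₂sur := LinearMap.injective_iff_surjective.1 hb₂
    obtain ⟨e, he⟩ := hF.exists_orth4
    have horth : polar QU u' x' = 0 := by
      obtain ⟨w, hw⟩ := hbsur (e 0)
      obtain ⟨w', hw'⟩ := hb₂sur (e 0)
      have h1 := polar_oG h (pt u₀ w) (pt x w')
      rw [hub, hxb, hw, hw', hF.prod, hF.prod, hux, zero_mul, polar_self'] at h1
      exact (mul_eq_zero.1 h1).resolve_right (mul_ne_zero h2 (he.aniso 0))
    obtain ⟨s, hs0, hs⟩ : ∃ s : F, s ≠ 0 ∧ QU (u₀ + s • x) ≠ 0 := by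
      by_cases h1 : QU (u₀ + (1 : F) • x) = 0
      · obtain ⟨s, hs0, hs1, hs2⟩ := exists_scale hF.q5
        refine ⟨s, hs0, fun h3 => ?_⟩
        rw [map_add_smul, hux] at h1 h3
        have : (s - 1) * (s + 1) = 0 :=
          (mul_eq_zero.1 (show ((s - 1) * (s + 1)) * QU x = 0 by linear_combination h3 - h1)).resolve_right hx
        rcases mul_eq_zero.1 this with e' | e'
        · exact hs1 (sub_eq_zero.1 e')
        · exact hs2 (eq_neg_of_add_eq_zero_left e')
      · exact ⟨1, one_ne_zero, h1⟩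
    obtain ⟨z', b₃, hz', hb₃, hzb⟩ := himg _ hs
    have hsum : ∀ w, pt u' (b w) + s • pt x' (b₂ w) = pt z' (b₃ w) := fun w => by
      rw [← hub, ← hxb, ← hzb, map_add pt, map_smul pt, LinearMap.add_apply, LinearMap.smul_apply, map_add, map_smul]
    have h1 : ∀ w, (2 * QU u') • b w = polar QU u' z' • b₃ w := fun w => by
      have h := congrArg (hF.pU u') (hsum w)
      rwa [map_add, map_smul, hF.pU_pt, hF.pU_pt, hF.pU_pt, horth, zero_smul, smul_zero, add_zero, polar_self'] at h
    have h3 : ∀ w, (s * (2 * QU x')) • b₂ w = polar QU x' z' • b₃ w := fun w => by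
      have h := congrArg (hF.pU x') (hsum w)
      rwa [map_add, map_smul, hF.pU_pt, hF.pU_pt, hF.pU_pt, polar_comm QU x' u', horth, zero_smul, zero_add,
        polar_self', smul_smul] at h
    have hα : polar QU u' z' ≠ 0 := fun h0 => by
      have h := h1 (e 0)
      rw [h0, zero_smul, smul_eq_zero] at h
      have := hb ((h.resolve_left (mul_ne_zero h2 hu')).trans (map_zero b).symm)
      exact he.aniso 0 (by rw [this, QuadraticMap.map_zero])
    have hc : s * (2 * QU x') ≠ 0 := mul_ne_zero hs0 (mul_ne_zero h2 hx')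
    refine ⟨((s * (2 * QU x'))⁻¹ * (polar QU x' z' * ((polar QU u' z')⁻¹ * (2 * QU u')))) • x', fun w => ?_⟩
    rw [hxb, map_smul pt, LinearMap.smul_apply, ← map_smul (pt x')]
    congr 1
    rw [mul_smul, mul_smul, mul_smul, h1 w, inv_smul_smul₀ hα, ← h3 w, inv_smul_smul₀ hc]
  obtain ⟨x', hxb⟩ := other x₀ hO.hx hO.ux
  obtain ⟨y', hyb⟩ := other y₀ hO.hy hO.uy
  refine ⟨((2 * QU u₀)⁻¹ • polarBilin QU u₀).smulRight u' + ((2 * QU x₀)⁻¹ • polarBilin QU x₀).smulRight x' +
    ((2 * QU y₀)⁻¹ • polarBilin QU y₀).smulRight y', b, fun z w => ?_⟩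
  conv_lhs => rw [hO.expand z]
  simp only [map_add, map_smul, LinearMap.add_apply, LinearMap.smul_apply, hub, hxb, hyb, LinearMap.smulRight_apply,
    polarBilin_apply_apply, polar_comm QU z, smul_eq_mul]

/-- the group preserves the decomposition -/
theorem inN (hne : ¬ eo Q ≤ H) (hO : Over pt H) {h : oG Q} (hH : h ∈ H) : InN pt h.1 := by
  have h2 := hF.two
  have : Finite V := Module.finite_of_finite F
  have : Finite (oG Q) := Finite.of_injective (fun g : oG Q => (g.1 : V → V)) fun g g' e => ext_oG (congrFun e)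
  by_contra hN
  obtain ⟨u₀, hu₀, hj⟩ : ∃ (u : U) (hu : QU u ≠ 0), ¬ InN pt (h * hF.lp (rho hu, 1) * h⁻¹).1 := by
    by_contra! hall
    exact hN (hF.inN_of_forall hall)
  set j := h * hF.lp (rho hu₀, 1) * h⁻¹ with hjd
  have hjH : j ∈ H := mul_mem (mul_mem hH (hF.t_mem hO hu₀)) (inv_mem hH)
  have hjj : j * j = 1 := by
    rw [hjd, show h * hF.lp (rho hu₀, 1) * h⁻¹ * (h * hF.lp (rho hu₀, 1) * h⁻¹) =
      h * (hF.lp (rho hu₀, 1) * hF.lp (rho hu₀, 1)) * h⁻¹ by group, hF.rho_sq, mul_one, mul_inv_cancel]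
  -- all the involutions are conjugate
  have hconj : ∀ (u : U) (hu : QU u ≠ 0), ∃ g ∈ H, g * hF.lp (rho hu, 1) * g⁻¹ = hF.lp (rho hu₀, 1) := by
    intro u hu
    set t := hF.lp (rho hu, 1) with ht
    have hcl : Subgroup.closure ({t, j} : Set (oG Q)) ≤ H := (Subgroup.closure_le H).2 (by
      rintro _ (rfl | rfl)
      · exact hF.t_mem hO hu
      · exact hjH)
    rcases dihedral_cases (hF.rho_sq hu) hjj with ⟨g, hg, e⟩ | ⟨z, hz1, hzt, hzj, g, hg, e⟩
    · refine ⟨h⁻¹ * g, mul_mem (inv_mem hH) (hcl hg), ?_⟩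
      rw [show h⁻¹ * g * t * (h⁻¹ * g)⁻¹ = h⁻¹ * (g * t * g⁻¹) * h by group, e, hjd]
      group
    exfalso
    have hm : t * z ∈ H := by
      rcases e with e | e <;> rw [e]
      · exact mul_mem (mul_mem (hcl hg) (hF.t_mem hO hu)) (inv_mem (hcl hg))
      · exact mul_mem (mul_mem (hcl hg) hjH) (inv_mem (hcl hg))
    have hN1 : InN pt (t * z).1 :=
      hF.inN_of_centralizes hne hO hu hm ((Commute.refl t).mul_left hzt)
    obtain ⟨u', hu', e'⟩ : ∃ (u' : U) (hu' : QU u' ≠ 0), t * z = hF.lp (rho hu', 1) := by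
      rcases e with e | e
      · exact hF.eq_rho hu hN1 e
      · exact hF.eq_rho (h := g * h) hu₀ hN1 (by rw [e, hjd]; group)
    have hz : z = t * hF.lp (rho hu', 1) := by rw [← e', ← mul_assoc, hF.rho_sq, one_mul]
    have hcomm : Commute (rho hu) (rho hu') := hF.lp_one_inj (by
      have h5 : Commute t (t * z) := (Commute.refl t).mul_right hzt.symm
      rw [e'] at h5
      rw [← one_mul (1 : oG QW), ← Prod.mk_mul_mk, ← Prod.mk_mul_mk, map_mul, map_mul]
      exact h5.eq)
    rcases hF.rho_commute hu hu' hcomm with hl | hperp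
    · exact hz1 (by rw [hz, rho_congr hu hu' hl, hF.rho_sq])
    obtain ⟨x, hx, hxq⟩ := hF.exists_orth_one (a := ![u, u'])
      (fun i j h => by fin_cases i <;> fin_cases j <;> simp_all [polar_comm QU u' u])
      (fun i => by fin_cases i <;> simpa) (by omega)
    have hO3 := hF.mk_orth3 hu hu' hxq hperp (hx 0) (hx 1)
    have hz' : z = hF.lp (rho hxq, 1) := by
      rw [hz, ht, ← map_mul, Prod.mk_mul_mk, one_mul, ← hF.rho_prod hO3]
    exact hj (hF.inN_of_centralizes hne hO hxq hjH (hz' ▸ hzj.symm))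
  -- counting lines
  obtain ⟨p, hp0, hp⟩ := exists_singular QU hF.dimU_ge
  obtain ⟨q, hq, hpq⟩ := exists_hyp_pair hF.ndU hp0 hp
  obtain ⟨v, hpv, hqv, hv⟩ := exists_aniso_perp hF.ndU hF.dimU_ge hp hq hpq
  obtain ⟨α, hα⟩ := FiniteField.exists_nonsquare (F := F) fun h' => h2 (by
    have : CharP F 2 := h' ▸ ringChar.charP F
    exact CharTwo.two_eq_zero)
  set a := -α * QU v with had
  have ha : a ≠ 0 := mul_ne_zero (neg_ne_zero.2 fun e => hα (e ▸ IsSquare.zero)) hv
  set u := p - a • q with hud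
  set x := p + a • q with hxd
  have hu : QU u = -a := by
    rw [hud, sub_eq_add_neg, ← neg_smul, map_add_smul, hp, hq, hpq]; ring
  have hune : QU u ≠ 0 := by rw [hu]; exact neg_ne_zero.2 ha
  have hxq : QU x = a := by rw [hxd, map_add_smul, hp, hq, hpq]; ring
  have hux : polar QU u x = 0 := by
    rw [hud, hxd]
    simp [polar_sub_left, polar_add_right, polar_smul_left, polar_smul_right, polar_sing hp, polar_sing hq, hpq,
      polar_comm QU q p]
  have huv : polar QU u v = 0 := by rw [hud, polar_sub_left, polar_smul_left, hpv, hqv]; simp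
  have hxv : polar QU v x = 0 := by
    rw [hxd, polar_add_right, polar_smul_right, polar_comm QU v p, hpv, polar_comm QU v q, hqv]
    simp
  have hz : ∀ s : F, QU (v + s • x) ≠ 0 := fun s h0 => by
    rw [map_add_smul, hxq, hxv, had] at h0
    refine hα ?_
    have hs : s * s * α = 1 := by
      refine mul_left_cancel₀ hv ?_
      linear_combination -h0
    exact ⟨s⁻¹, by
      have : s ≠ 0 := fun e => by rw [e] at hs; simp at hs
      field_simp; linear_combination hs⟩
  obtain ⟨g₁, hg₁, e₁⟩ := hconj u hune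
  obtain ⟨g₂, hg₂, e₂⟩ := hconj v hv
  set g := g₂⁻¹ * g₁ with hg
  have hgH : g ∈ H := mul_mem (inv_mem hg₂) hg₁
  have hge : g * hF.lp (rho hune, 1) * g⁻¹ = hF.lp (rho hv, 1) := by
    rw [hg, show g₂⁻¹ * g₁ * hF.lp (rho hune, 1) * (g₂⁻¹ * g₁)⁻¹ = g₂⁻¹ * (g₁ * hF.lp (rho hune, 1) * g₁⁻¹) * g₂
      by group, e₁, ← e₂]
    group
  have himg : ∀ s : F, ∃ (y : U) (hy : QU y ≠ 0), polar QU v y = 0 ∧
      g * hF.lp (rho (hz s), 1) * g⁻¹ = hF.lp (rho hy, 1) := by
    intro s
    have hperp : polar QU u (v + s • x) = 0 := by rw [polar_add_right, polar_smul_right, huv, hux, smul_zero, add_zero]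
    have hcm : Commute (rho hune) (rho (hz s)) := by
      show _ * _ = _ * _
      rw [← mul_inv_eq_iff_eq_mul, rho_conj]
      refine rho_congr (hz s) _ ?_
      rw [rho_apply, polar_comm QU _ u, hperp, zero_div, zero_smul, zero_sub]
      exact Submodule.neg_mem _ (Submodule.mem_span_singleton_self _)
    have hcm' : Commute (hF.lp (rho hune, 1)) (hF.lp (rho (hz s), 1)) := by
      show _ * _ = _ * _
      rw [← map_mul, ← map_mul, Prod.mk_mul_mk, Prod.mk_mul_mk, hcm.eq]
    have hcg : Commute (g * hF.lp (rho (hz s), 1) * g⁻¹) (hF.lp (rho hv, 1)) := by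
      rw [← hge]; exact (Commute.conj_iff g).2 hcm'.symm
    obtain ⟨y, hy, ey⟩ := hF.eq_rho (hz s) (hF.inN_of_centralizes hne hO hv
      (mul_mem (mul_mem hgH (hF.t_mem hO (hz s))) (inv_mem hgH)) hcg) rfl
    refine ⟨y, hy, ?_, ey⟩
    rw [ey] at hcg
    have hcom : Commute (rho hv) (rho hy) := hF.lp_one_inj (by
      rw [← one_mul (1 : oG QW), ← Prod.mk_mul_mk, ← Prod.mk_mul_mk, map_mul, map_mul]
      exact hcg.eq.symm)
    rcases hF.rho_commute hv hy hcom with hl | hl
    · exfalso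
      rw [rho_congr hv hy hl, ← hge] at ey
      have e6 := hF.lp_one_inj (mul_left_cancel (mul_right_cancel ey))
      obtain ⟨r, hr⟩ := Submodule.mem_span_singleton.1 (rho_inj h2 e6.symm)
      have := congrArg (polar QU u) hr
      rw [hperp, polar_smul_right, polar_self', smul_eq_mul, mul_eq_zero] at this
      refine hz s ?_
      rw [← hr, this.resolve_right (mul_ne_zero h2 hune), zero_smul, QuadraticMap.map_zero]
    · exact hl
  choose y hy hvy hey using himg
  have e1 : QU (p + q) = 1 := by rw [map_add', hp, hq, hpq]; ring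
  have e3 : QU (p - q) = -1 := by
    rw [sub_eq_add_neg, map_add', polar_neg_right, QuadraticMap.map_neg, hp, hq, hpq]; ring
  have hO3 : Orth3 QU v (p + q) (p - q) := hF.mk_orth3 hv (e1.trans_ne one_ne_zero)
    (e3.trans_ne (neg_ne_zero.2 one_ne_zero))
    (by rw [polar_add_right, polar_comm QU v p, hpv, polar_comm QU v q, hqv, add_zero])
    (by rw [polar_sub_right, polar_comm QU v p, hpv, polar_comm QU v q, hqv, sub_zero])
    (by simp [polar_add_left, polar_sub_right, polar_sing hp, polar_sing hq, hpq, polar_comm QU q p])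
  have hyd : ∀ s, y s = polar QU q (y s) • p + polar QU p (y s) • q := fun s => by
    conv_lhs => rw [hO3.expand (y s)]
    rw [polar_comm QU (y s) v, hvy, mul_zero, zero_smul, zero_add, e1, e3, polar_add_right, polar_sub_right,
      polar_comm QU (y s) p, polar_comm QU (y s) q]
    match_scalars <;> field_simp <;> ring
  have hne0 : ∀ s, polar QU q (y s) ≠ 0 ∧ polar QU p (y s) ≠ 0 := fun s => by
    have h5 := hy s
    rw [hyd s, map_add', Quad.map_smul', Quad.map_smul', hp, hq, polar_smul_left, polar_smul_right, hpq] at h5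
    simpa using h5
  let φ : F → F := fun s => polar QU p (y s) / polar QU q (y s)
  have hφ : Function.Injective φ := by
    intro s s' e
    have h7 : y s' ∈ F ∙ y s := by
      refine Submodule.mem_span_singleton.2 ⟨polar QU q (y s') / polar QU q (y s), ?_⟩
      have e' : polar QU p (y s) / polar QU q (y s) = polar QU p (y s') / polar QU q (y s') := e
      have := (hne0 s).1; have := (hne0 s').1
      rw [div_eq_div_iff (hne0 s).1 (hne0 s').1] at e'
      have k := hyd s
      have k' := hyd s'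
      generalize polar QU q (y s) = A, polar QU p (y s) = B, polar QU q (y s') = A', polar QU p (y s') = B' at *
      rw [k, k']
      match_scalars <;> field_simp
      linear_combination e'
    have h8 : hF.lp (rho (hz s'), 1) = hF.lp (rho (hz s), 1) := by
      refine mul_left_cancel (a := g) (mul_right_cancel (b := g⁻¹) ?_)
      rw [hey, hey, rho_congr (hy s) (hy s') h7]
    obtain ⟨r, hr⟩ := Submodule.mem_span_singleton.1 (rho_inj h2 (hF.lp_one_inj h8))
    have h9 := congrArg (polar QU v) hr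
    simp only [polar_smul_right, polar_add_right, polar_self', hxv, mul_zero, smul_zero, add_zero, smul_eq_mul] at h9
    have hr1 : r = 1 := by
      have := mul_ne_zero h2 hv
      exact mul_right_cancel₀ this (by linear_combination h9)
    rw [hr1, one_smul] at hr
    have hx0 : x ≠ 0 := fun e0 => ha (by rw [← hxq, e0, QuadraticMap.map_zero])
    exact (smul_left_injective F hx0 (add_left_cancel hr)).symm
  obtain ⟨s, hs⟩ := (Finite.injective_iff_surjective.1 hφ) 0
  exact (div_ne_zero (hne0 s).2 (hne0 s).1) hs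

/-- some element of the commutator subgroup does not preserve the decomposition -/
theorem exists_not_inN : ∃ g ∈ commutator (oG Q), ¬ InN pt g.1 := by
  have h2 := hF.two
  obtain ⟨p, hp0, hp⟩ := exists_singular QU hF.dimU_ge
  obtain ⟨q, hq, hpq⟩ := exists_hyp_pair hF.ndU hp0 hp
  obtain ⟨c, hc0, hc⟩ := exists_singular QW (by rw [hF.dimW]; omega)
  obtain ⟨f, v₁, v₂, hC⟩ := hF.exists_centre' hc0 hc
  have hu : Q (pt p c) = 0 := hF.pure_sing hp c
  have hh : polar Q (pt p c) (pt p f) = 0 := by rw [hF.prod, polar_sing hp, zero_mul]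
  refine ⟨sO hu hh, sO_mem_commutator hF.nd (Or.inl (two_ne_card h2)) hu hh, fun ⟨a, b, hab⟩ => ?_⟩
  have e1 : (sO hu hh).1 (pt q v₁) = pt q v₁ := by
    rw [sO_apply, hF.prod, hF.prod, polar_comm QW v₁ f, hC.f1, polar_comm QW v₁ c, hC.c1]; simp
  have e2 : (sO hu hh).1 (pt q c) = pt (q + p) c := by
    rw [sO_apply, hF.prod, hF.prod, hC.hcf, polar_sing hC.hc, polar_comm QU q p, hpq, map_add pt,
      LinearMap.add_apply]
    simp
  rw [hab] at e1 e2
  have h1 := congrArg (hF.pW v₁) e1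
  have h3 := congrArg (hF.pW f) e2
  rw [hF.pW_pt, hF.pW_pt, polar_self'] at h1
  rw [hF.pW_pt, hF.pW_pt, polar_comm QW f c, hC.hcf, one_smul] at h3
  have k1 := congrArg (polar QU q) h1
  have k3 := congrArg (polar QU q) h3
  simp only [polar_smul_right, polar_add_right, polar_sing hq, polar_comm QU q p, hpq, smul_eq_mul, mul_zero,
    zero_add, mul_eq_zero] at k1 k3
  rcases k1 with k1 | k1
  · rw [k1, zero_smul, eq_comm, smul_eq_zero] at h1
    rcases h1 with h1 | h1
    · exact mul_ne_zero h2 hC.q1 h1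
    · rw [h1] at hpq; simp [polar] at hpq
  · rw [k1, mul_zero] at k3
    exact zero_ne_one k3

end Frame4

end Cfsg.Agent.ClassicalMax.OTensor
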