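import Cfsg.Agent.ClassicalMax.OTensor4.Scalar

/-!
`O₃ ⊗ O₄⁻`: an element of the group that stabilises `U ⊗ c`, for a singular vector `c` of the second factor,
preserves the decomposition.
-/

set_option autoImplicit false
set_option linter.unusedSectionVars false
set_option linter.style.haveILetI false

namespace Cfsg.Agent.ClassicalMax.OTensor

open Module QuadraticMap Cfsg.Agent.Classical Cfsg.Agent.Classical.Quad Cfsg.Agent.ClassicalMax

variable {F U W V : Type*} [Field F] [AddCommGroup U] [Module F U] [FiniteDimensional F U] [AddCommGroup W]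
  [Module F W] [FiniteDimensional F W] [AddCommGroup V] [Module F V] [FiniteDimensional F V]
  {Q : QuadraticForm F V} {QU : QuadraticForm F U} {QW : QuadraticForm F W} {pt : U →ₗ[F] W →ₗ[F] V}
  {H : Subgroup (oG Q)}

theorem InN.mul {g g' : oG Q} (h : InN pt g.1) (h' : InN pt g'.1) : InN pt (g * g').1 := by
  obtain ⟨a, b, hg⟩ := h
  obtain ⟨a', b', hg'⟩ := h'
  exact ⟨a ∘ₗ a', b ∘ₗ b', fun x y => by rw [oG_mul_apply, hg', hg]; rfl⟩

/-- a pair of similitudes with inverse factors gives an isometry -/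
theorem Core.exists_pair_sim (hF : Core Q QU QW pt) {a : U ≃ₗ[F] U} {b : W ≃ₗ[F] W} {l m : F} (hlm : l * m = 1)
    (ha : ∀ x y, polar QU (a x) (a y) = l * polar QU x y) (hb : ∀ x y, polar QW (b x) (b y) = m * polar QW x y) :
    ∃ g : oG Q, ∀ x y, g.1 (pt x y) = pt (a x) (b y) := by
  obtain ⟨g, hg⟩ := hF.lift a b
  have hpol : ∀ z z', polar Q (g z) (g z') = polar Q z z' := by
    have h1 : ((polarBilin Q).compl₁₂ g.toLinearMap g.toLinearMap) = polarBilin Q := hF.ext_pure fun x y => by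
      refine hF.ext_pure fun x' y' => ?_
      show polar Q (g (pt x y)) (g (pt x' y')) = polar Q (pt x y) (pt x' y')
      rw [hg, hg, hF.prod, hF.prod, ha, hb]
      linear_combination (polar QU x x' * polar QW y y') * hlm
    exact fun z z' => LinearMap.congr_fun₂ h1 z z'
  refine ⟨⟨g, fun z => ?_⟩, hg⟩
  have h2 := hpol z z
  rw [polar_self', polar_self'] at h2
  exact mul_left_cancel₀ hF.two h2

variable [Finite F]

namespace Frame4

variable (hF : Frame4 Q QU QW pt)
include hF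

/-- the Siegel transformation of the second factor -/
theorem sW_apply {c v : W} (hc : QW c = 0) (hv : polar QW c v = 0) (z : V) :
    (hF.lp (1, sO hc hv)).1 z = z + pt (hF.pW v z) c + (-QW v) • pt (hF.pW c z) c - pt (hF.pW c z) v := by
  have key : (hF.lp (1, sO hc hv)).1.toLinearMap =
      LinearMap.id + (pt.flip c ∘ₗ hF.pW v) + (-QW v) • (pt.flip c ∘ₗ hF.pW c) - pt.flip v ∘ₗ hF.pW c :=
    hF.ext_pure fun u x => by
      simp only [LinearEquiv.coe_coe, hF.lp_pt, oG_one_apply, LinearMap.sub_apply, LinearMap.add_apply,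
        LinearMap.smul_apply, LinearMap.id_apply, LinearMap.comp_apply, LinearMap.flip_apply, hF.pW_pt, sO_apply,
        map_add, map_smul, LinearMap.smul_apply, polar_comm QW x v, polar_comm QW x c]
      module
  exact LinearMap.congr_fun key z

/-- the square of its difference with the identity -/
theorem sW_sq {c v : W} (hc : QW c = 0) (hv : polar QW c v = 0) (z : V) :
    (hF.lp (1, sO hc hv)).1 ((hF.lp (1, sO hc hv)).1 z - z) - ((hF.lp (1, sO hc hv)).1 z - z) =
      (-(2 * QW v)) • pt (hF.pW c z) c := by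
  set x := hF.lp (1, sO hc hv) with hx
  have e1 : ∀ u, x.1 (pt u c) = pt u c := fun u => by
    rw [hx, hF.sW_apply hc hv, hF.pW_pt, hF.pW_pt, polar_sing hc, polar_comm QW v c, hv]
    simp
  have e2 : ∀ u, x.1 (pt u v) = pt u v + pt ((2 * QW v) • u) c := fun u => by
    rw [hx, hF.sW_apply hc hv, hF.pW_pt, hF.pW_pt, polar_self', hv]
    simp
  have e3 : x.1 z - z = pt (hF.pW v z) c + (-QW v) • pt (hF.pW c z) c - pt (hF.pW c z) v := by
    rw [hx, hF.sW_apply hc hv]
    abel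
  rw [e3, map_sub, map_add, map_smul, e1, e1, e2, map_smul pt, LinearMap.smul_apply]
  module

variable {c f v₁ v₂ : W}

theorem pure_inj (hC : Centre QW c f v₁ v₂) {u u' : U} (h : pt u c = pt u' c) : u = u' := by
  have := congrArg (hF.pW f) h
  rwa [hF.pW_pt, hF.pW_pt, polar_comm QW f c, hC.hcf, one_smul, one_smul] at this

theorem pW_c_fix {n : oG Q} (hn : ∀ u, n.1 (pt u c) = pt u c) (z : V) : hF.pW c (n.1 z) = hF.pW c z :=
  hF.eqU fun u => by
    rw [hF.polar_pW, hF.polar_pW]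
    conv_lhs => rw [← hn u]
    rw [polar_oG]

/-- two conjugate Siegel transformations determine the factor of the induced similitude -/
theorem factor_of_conj (hC : Centre QW c f v₁ v₂) {h : oG Q} {l : U →ₗ[F] U} (hl : ∀ u, h.1 (pt u c) = pt (l u) c)
    {v w : W} (hv : polar QW c v = 0) (hw : polar QW c w = 0)
    (hx : h * hF.lp (1, sO hC.hc hv) * h⁻¹ = hF.lp (1, sO hC.hc hw)) (x y : U) :
    QW v * polar QU (l x) (l y) = QW w * polar QU x y := by
  have e : ∀ z, QW w • hF.pW c (h.1 z) = QW v • l (hF.pW c z) := fun z => by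
    have h1 := hF.sW_sq hC.hc hw (h.1 z)
    rw [← hx] at h1
    simp only [oG_mul_apply, oG_inv_apply, ← map_sub, hF.sW_sq hC.hc hv, map_smul, hl] at h1
    have h2 : pt (QW w • hF.pW c (h.1 z)) c = pt (QW v • l (hF.pW c z)) c := by
      rw [map_smul, map_smul, LinearMap.smul_apply, LinearMap.smul_apply]
      refine smul_right_injective _ (neg_ne_zero.2 hF.two) ?_
      simp only [smul_smul]
      convert h1.symm using 2 <;> ring
    exact hF.pure_inj hC h2
  have hx' : hF.pW c (pt x f) = x := by rw [hF.pW_pt, hC.hcf, one_smul]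
  have h3 : polar QU (hF.pW c (h.1 (pt x f))) (l y) = polar QU x y := by
    rw [hF.polar_pW, ← hl, polar_oG, hF.prod, hC.hcf, mul_one, polar_comm]
  have h4 := congrArg (fun u => polar QU u (l y)) (e (pt x f))
  simp only [polar_smul_left, h3, hx', smul_eq_mul] at h4
  exact h4.symm

/-- an element of the group stabilising `U ⊗ c` preserves the decomposition -/
theorem inN_of_stab (hne : ¬ eo Q ≤ H) (hO : Over pt H) (hC : Centre QW c f v₁ v₂) {h : oG Q} (hH : h ∈ H)
    (hs : ∀ u, ∃ u', h.1 (pt u c) = pt u' c) : InN pt h.1 := by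
  have h2 := hF.two
  -- the action on `U ⊗ c`
  let l₀ : U →ₗ[F] U := hF.pW f ∘ₗ h.1.toLinearMap ∘ₗ pt.flip c
  have hl : ∀ u, h.1 (pt u c) = pt (l₀ u) c := fun u => by
    obtain ⟨u', hu'⟩ := hs u
    show h.1 (pt u c) = pt (hF.pW f (h.1 (pt u c))) c
    rw [hu', hF.pW_pt, polar_comm QW f c, hC.hcf, one_smul]
  have hinj : Function.Injective l₀ := fun x y e => hF.pure_inj hC (h.1.injective (by rw [hl, hl, e]))
  let l := LinearEquiv.ofInjectiveEndo l₀ hinj
  have hsurj : ∀ u', ∃ u, h.1 (pt u c) = pt u' c := fun u' =>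
    ⟨l.symm u', by rw [hl]; exact congrArg (fun u => pt u c) (l.apply_symm_apply u')⟩
  -- the conjugates of the Siegel transformations
  have hconj : ∀ (v : W) (hv : polar QW c v = 0), ∃ (w : W) (hw : polar QW c w = 0), polar QW f w = 0 ∧
      h * hF.lp (1, sO hC.hc hv) * h⁻¹ = hF.lp (1, sO hC.hc hw) := fun v hv => by
    obtain ⟨w, hw, e⟩ := hF.inQ_mem hne hO hC (hF.inQ_conj hs (hF.inQ_sW hC.hc hv) hsurj)
      (mul_mem (mul_mem hH (hO.sW_mem4 hF hC.hc hv)) (inv_mem hH))
    have hw' : polar QW c (w + (-polar QW f w) • c) = 0 := by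
      rw [polar_add_right, polar_smul_right, hw, polar_sing hC.hc, smul_zero, add_zero]
    refine ⟨_, hw', ?_, by rw [e, sO_add_self hC.hc hw]⟩
    rw [polar_add_right, polar_smul_right, polar_comm QW f c, hC.hcf, smul_eq_mul]
    ring
  obtain ⟨w₁, hw₁, hf₁, e₁⟩ := hconj v₁ hC.c1
  obtain ⟨w₂, hw₂, hf₂, e₂⟩ := hconj v₂ hC.c2
  have hfac₁ := hF.factor_of_conj hC hl hC.c1 hw₁ e₁
  obtain ⟨a₀, ha₀⟩ := exists_aniso hF.ndU (by rw [hF.dimU]; omega)
  have hQw₁ : QW w₁ ≠ 0 := fun h0 => by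
    have : ∀ y, l₀ y = 0 := fun y => hF.eqU fun u => by
      obtain ⟨u', rfl⟩ := l.surjective u
      have := hfac₁ y u'
      rw [h0, zero_mul, mul_eq_zero] at this
      rw [polar_zero_left]
      exact this.resolve_left hC.q1
    have ha : a₀ = 0 := hinj (by rw [this, map_zero])
    exact ha₀ (by rw [ha, QuadraticMap.map_zero])
  set lam := QW w₁ / QW v₁ with hlamd
  have hlam : lam ≠ 0 := div_ne_zero hQw₁ hC.q1
  have hsim : ∀ x y, polar QU (l₀ x) (l₀ y) = lam * polar QU x y := fun x y => by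
    have := hC.q1
    rw [hlamd, div_mul_eq_mul_div, eq_div_iff this, mul_comm]
    exact hfac₁ x y
  clear_value lam
  have hfac : ∀ (v w : W) (hv : polar QW c v = 0) (hw : polar QW c w = 0),
      h * hF.lp (1, sO hC.hc hv) * h⁻¹ = hF.lp (1, sO hC.hc hw) → QW w = lam * QW v := fun v w hv hw e => by
    have := hF.factor_of_conj hC hl hv hw e a₀ a₀
    rw [hsim, polar_self'] at this
    exact mul_right_cancel₀ (mul_ne_zero h2 ha₀) (by linear_combination -this)
  have hq₁ := hfac _ _ hC.c1 hw₁ e₁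
  have hq₂ := hfac _ _ hC.c2 hw₂ e₂
  have hsum : h * hF.lp (1, sO hC.hc (polar_perp_add hC.c1 hC.c2)) * h⁻¹ =
      hF.lp (1, sO hC.hc (polar_perp_add hw₁ hw₂)) := by
    rw [← sO_mul hC.hc hC.c1 hC.c2, ← sO_mul hC.hc hw₁ hw₂,
      show ((1, sO hC.hc hC.c1 * sO hC.hc hC.c2) : oG QU × oG QW) = (1, sO hC.hc hC.c1) * (1, sO hC.hc hC.c2) by simp,
      show ((1, sO hC.hc hw₁ * sO hC.hc hw₂) : oG QU × oG QW) = (1, sO hC.hc hw₁) * (1, sO hC.hc hw₂) by simp,
      map_mul, map_mul, ← e₁, ← e₂]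
    group
  have h12 : polar QW w₁ w₂ = 0 := by
    have := hfac _ _ _ _ hsum
    rw [map_add', map_add', hq₁, hq₂, hC.h12] at this
    linear_combination this
  have hQw₂ : QW w₂ ≠ 0 := by rw [hq₂]; exact mul_ne_zero hlam hC.q2
  -- the pair
  let b₀ : W →ₗ[F] W := (polarBilin QW f).smulRight c + (lam⁻¹ • polarBilin QW c).smulRight f +
    ((lam⁻¹ * (2 * QW v₁)⁻¹) • polarBilin QW v₁).smulRight w₁ + ((lam⁻¹ * (2 * QW v₂)⁻¹) • polarBilin QW v₂).smulRight w₂
  have hb₀ : ∀ x, b₀ x = polar QW f x • c + (lam⁻¹ * polar QW c x) • f +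
      (lam⁻¹ * (2 * QW v₁)⁻¹ * polar QW v₁ x) • w₁ + (lam⁻¹ * (2 * QW v₂)⁻¹ * polar QW v₂ x) • w₂ := fun x => rfl
  have hbc : b₀ c = c := by
    rw [hb₀, polar_sing hC.hc, polar_comm QW f c, hC.hcf, polar_comm QW v₁ c, hC.c1, polar_comm QW v₂ c, hC.c2]
    simp
  have hbsim : ∀ x y, polar QW (b₀ x) (b₀ y) = lam⁻¹ * polar QW x y := fun x y => by
    conv_rhs => rw [hC.expand x]
    have q1 := hC.q1; have q2 := hC.q2
    simp only [hb₀, polar_add_left, polar_add_right, polar_smul_left, polar_smul_right, polar_self', hC.hc, hC.hf,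
      hC.hcf, polar_comm QW f c, hw₁, hw₂, hf₁, hf₂, h12, polar_comm QW w₁ c, polar_comm QW w₂ c,
      polar_comm QW w₁ f, polar_comm QW w₂ f, polar_comm QW w₂ w₁, hq₁, hq₂, smul_eq_mul]
    field_simp
    ring
  have hbinj : Function.Injective b₀ := (injective_iff_map_eq_zero b₀).2 fun x hx => hF.eqW fun y => by
    have := hbsim x y
    rw [hx, polar_zero_left, eq_comm, mul_eq_zero] at this
    rw [this.resolve_left (inv_ne_zero hlam), polar_zero_left]
  let b := LinearEquiv.ofInjectiveEndo b₀ hbinj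
  obtain ⟨k, hk⟩ := hF.exists_pair_sim (a := l) (b := b) (mul_inv_cancel₀ hlam) hsim hbsim
  have hk' : ∀ x y, k.1 (pt x y) = pt (l₀ x) (b₀ y) := hk
  have hkN : InN pt k.1 := ⟨l₀, b₀, hk'⟩
  have hkc : ∀ u, k.1 (pt u c) = pt (l₀ u) c := fun u => by rw [hk', hbc]
  -- intertwining
  have hkx : ∀ (v w : W) (hv : polar QW c v = 0) (hw : polar QW c w = 0), w = lam • b₀ v →
      k * hF.lp (1, sO hC.hc hv) * k⁻¹ = hF.lp (1, sO hC.hc hw) := by
    intro v w hv hw e
    rw [mul_inv_eq_iff_eq_mul]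
    refine ext_oG fun z => LinearMap.congr_fun (f := (k * hF.lp (1, sO hC.hc hv)).1.toLinearMap)
      (g := (hF.lp (1, sO hC.hc hw) * k).1.toLinearMap) (hF.ext_pure fun u x => ?_) z
    simp only [LinearEquiv.coe_coe, oG_mul_apply, hF.lp_pt, oG_one_apply, hk']
    congr 1
    have ewc : polar QW (b₀ x) c = lam⁻¹ * polar QW x c := by rw [← hbsim, hbc]
    have eq : QW w = lam * QW v := by
      have h' := hbsim v v
      rw [polar_self', polar_self'] at h'
      rw [e, Quad.map_smul']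
      refine mul_left_cancel₀ h2 ?_
      field_simp at h'
      linear_combination (2 * lam) * h'
    rw [sO_apply, sO_apply, ewc, eq, e, polar_smul_right, hbsim, smul_eq_mul]
    simp only [map_add, map_sub, map_smul, hbc, smul_smul]
    match_scalars <;> field_simp <;> ring
  have hbv₁ : w₁ = lam • b₀ v₁ := by
    rw [hb₀, hC.c1, hC.f1, polar_self', polar_comm QW v₂ v₁, hC.h12, mul_zero, mul_zero, zero_smul, zero_smul,
      zero_smul, zero_add, zero_add, add_zero, smul_smul,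
      show lam * (lam⁻¹ * (2 * QW v₁)⁻¹ * (2 * QW v₁)) = 1 by have := hC.q1; field_simp, one_smul]
  have hbv₂ : w₂ = lam • b₀ v₂ := by
    rw [hb₀, hC.c2, hC.f2, polar_self', hC.h12, mul_zero, mul_zero, zero_smul, zero_smul, zero_smul, zero_add,
      zero_add, zero_add, smul_smul,
      show lam * (lam⁻¹ * (2 * QW v₂)⁻¹ * (2 * QW v₂)) = 1 by have := hC.q2; field_simp, one_smul]
  -- the remaining part lies in the radical
  set n := k⁻¹ * h with hn
  have hhn : h = k * n := by rw [hn, mul_inv_cancel_left]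
  have hn1 : ∀ u, n.1 (pt u c) = pt u c := fun u => by rw [hn, oG_mul_apply, hl, ← hkc, oG_inv_apply]
  have hcomm : ∀ (v w : W) (hv : polar QW c v = 0) (hw : polar QW c w = 0), w = lam • b₀ v →
      h * hF.lp (1, sO hC.hc hv) * h⁻¹ = hF.lp (1, sO hC.hc hw) → Commute n (hF.lp (1, sO hC.hc hv)) := by
    intro v w hv hw e e'
    rw [← hkx v w hv hw e, hhn] at e'
    have : n * hF.lp (1, sO hC.hc hv) * n⁻¹ = hF.lp (1, sO hC.hc hv) := by
      have h5 := congrArg (fun y => k⁻¹ * y * k) e'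
      simpa [mul_assoc] using h5
    exact mul_inv_eq_iff_eq_mul.1 this
  have hc1 := hcomm _ _ hC.c1 hw₁ hbv₁ e₁
  have hc2 := hcomm _ _ hC.c2 hw₂ hbv₂ e₂
  have hperp : ∀ (v : W) (hv : polar QW c v = 0), polar QW f v = 0 → Commute n (hF.lp (1, sO hC.hc hv)) →
      ∀ u, ∃ u', n.1 (pt u v) = pt u v + pt u' c := by
    intro v hv hfv hcv u
    have e := congrArg (fun g : oG Q => g.1 (pt u f)) hcv.eq
    simp only [oG_mul_apply] at e
    rw [hF.sW_apply hC.hc hv, hF.sW_apply hC.hc hv, hF.pW_c_fix hn1, hF.pW_pt, hF.pW_pt, hC.hcf,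
      polar_comm QW v f, hfv, one_smul, zero_smul, map_sub, map_add, map_add, map_smul, hn1, hn1] at e
    simp only [map_zero, LinearMap.zero_apply] at e
    refine ⟨-hF.pW v (n.1 (pt u f)), ?_⟩
    rw [map_neg pt, LinearMap.neg_apply]
    linear_combination (norm := module) -e
  have hnq : hF.InQ c n := by
    refine ⟨hn1, fun z hz => ?_⟩
    obtain ⟨u₁, h₁⟩ := hperp v₁ hC.c1 hC.f1 hc1 (hF.pW v₁ z)
    obtain ⟨u₂, h₂⟩ := hperp v₂ hC.c2 hC.f2 hc2 (hF.pW v₂ z)
    refine ⟨(2 * QW v₁)⁻¹ • u₁ + (2 * QW v₂)⁻¹ • u₂, ?_⟩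
    conv_lhs => rw [hF.decomp hC z, hz, map_zero, LinearMap.zero_apply, add_zero, map_add, map_add, map_smul,
      map_smul, hn1, h₁, h₂]
    conv_rhs => enter [1]; rw [hF.decomp hC z, hz, map_zero, LinearMap.zero_apply, add_zero]
    simp only [map_add, map_smul, LinearMap.add_apply, LinearMap.smul_apply, smul_add]
    abel
  have hS0 : ∀ (v : W) (hv : polar QW c v = 0), Commute n (hF.lp (1, sO hC.hc hv)) →
      hF.comS c f v₁ v₂ n (hF.lp (1, sO hC.hc hv)) = 0 := by
    intro v hv hcv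
    refine LinearMap.ext fun u => hF.pure_inj hC ?_
    have e := hF.comm_apply hC hnq (hF.inQ_sW hC.hc hv) (pt u f)
    rw [← oG_mul_apply, ← oG_mul_apply, hcv.eq, left_eq_add, hF.pW_pt, hC.hcf, one_smul] at e
    rw [e, LinearMap.zero_apply, map_zero, LinearMap.zero_apply]
  obtain ⟨hs1, hs2⟩ := hF.symm_of_comS hC hnq (hS0 _ hC.c1 hc1) (hS0 _ hC.c2 hc2)
  -- commutators with the first factor
  have hA : ∀ a ∈ commutator (oG QU), ∃ (v : W) (hv : polar QW c v = 0),
      n * (hF.lp (a, 1) * n⁻¹ * (hF.lp (a, 1))⁻¹) = hF.lp (1, sO hC.hc hv) := by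
    intro a ha
    set A := hF.lp (a, 1) with hAd
    have hAc : A ∈ commutator (oG Q) := by
      have h := map_derivedSeries_le_derivedSeries (hF.lp.comp (MonoidHom.inl (oG QU) (oG QW))) 1
        (Subgroup.mem_map_of_mem _ (by rwa [derivedSeries_one] : a ∈ derivedSeries (oG QU) 1))
      rwa [derivedSeries_one] at h
    have hkA : k * A * k⁻¹ ∈ H := by
      refine hO _ (Subgroup.Normal.conj_mem inferInstance _ hAc _) ⟨l₀ ∘ₗ a.1.toLinearMap ∘ₗ l.symm.toLinearMap,
        LinearMap.id, fun x y => ?_⟩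
      have e : (k⁻¹).1 (pt x y) = pt (l.symm x) (b.symm y) := k.1.injective (by
        rw [oG_apply_inv, hk, l.apply_symm_apply, b.apply_symm_apply])
      rw [oG_mul_apply, oG_mul_apply, e, hF.lp_pt, oG_one_apply, hk]
      simp only [LinearEquiv.apply_symm_apply, LinearMap.id_apply, LinearMap.comp_apply, LinearEquiv.coe_coe]
      rfl
    have hyq : hF.InQ c (n * (A * n⁻¹ * A⁻¹)) := hF.inQ_mul hC hnq (hF.lpU_conj (f := f) (hF.inQ_inv hnq) a).1
    have hks : ∀ u', ∃ u, k.1 (pt u c) = pt u' c := fun u' =>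
      ⟨l.symm u', by rw [hkc]; exact congrArg (fun u => pt u c) (l.apply_symm_apply u')⟩
    have hyH : k * (n * (A * n⁻¹ * A⁻¹)) * k⁻¹ ∈ H := by
      have : k * (n * (A * n⁻¹ * A⁻¹)) * k⁻¹ = h * A * h⁻¹ * (k * A * k⁻¹)⁻¹ := by rw [hhn]; group
      rw [this]
      exact mul_mem (mul_mem (mul_mem hH (hO.lp_memC hF.toCore ha (one_mem _))) (inv_mem hH)) (inv_mem hkA)
    obtain ⟨w, hw, e⟩ := hF.inQ_mem hne hO hC (hF.inQ_conj (fun u => ⟨_, hkc u⟩) hyq hks) hyH
    have hv : polar QW c (lam⁻¹ • b.symm w) = 0 := by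
      have h' := hbsim c (b.symm w)
      rw [hbc, show b₀ (b.symm w) = w from b.apply_symm_apply w, hw, eq_comm, mul_eq_zero] at h'
      rw [polar_smul_right, h'.resolve_left (inv_ne_zero hlam), smul_zero]
    refine ⟨_, hv, ?_⟩
    rw [← hkx _ w hv hw (by
      rw [map_smul, smul_smul, mul_inv_cancel₀ hlam, one_smul]; exact (b.apply_symm_apply w).symm)] at e
    have h6 := congrArg (fun y => k⁻¹ * y * k) e
    simpa [mul_assoc] using h6
  -- the components are scalar
  have hbA : ∀ a ∈ commutator (oG QU), ∀ v : W, polar QW c v = 0 → ∃ μ : F,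
      cnj a (hF.bq f n v) = hF.bq f n v + μ • LinearMap.id := by
    intro a ha v hv
    obtain ⟨w, hw, e⟩ := hA a ha
    refine ⟨-polar QW w v, ?_⟩
    have h7 := congrArg (fun g => hF.bq f g v) e
    simp only [hF.bq_mul hC hnq (hF.lpU_conj (f := f) (hF.inQ_inv hnq) a).1 hv,
      (hF.lpU_conj (f := f) (hF.inQ_inv hnq) a).2, hF.bq_inv hC hnq hv, hF.bq_sW hC hw hv] at h7
    have e1 : cnj a (-hF.bq f n v) = -cnj a (hF.bq f n v) := LinearMap.ext fun u => by simp [cnj_apply]
    rw [e1] at h7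
    rw [neg_smul, ← h7]
    abel
  have hscal : ∀ v : W, polar QW c v = 0 → (∀ x y, polar QU (hF.bq f n v x) y = polar QU x (hF.bq f n v y)) →
      ∃ κ : F, ∀ x, hF.bq f n v x = κ • x := by
    intro v hv hsym
    refine scalar_of_cone h2 hF.ndU hF.dimU_ge hF.q5 hsym fun p hp => ?_
    rcases eq_or_ne p 0 with rfl | hp0
    · simp [polar]
    obtain ⟨g, hg, hpg⟩ := exists_hyp_pair hF.ndU hp0 hp
    obtain ⟨w, hpw, -, hw⟩ := exists_aniso_perp hF.ndU hF.dimU_ge hp hg hpg
    obtain ⟨s, hs0, hs1', hs2'⟩ := exists_scale hF.q5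
    have hd : ∀ {w : U} (hw : polar QU p w = 0), ∃ μ : F, cnj (sO hp hw) (hF.bq f n v) +
        cnj (sO hp (polar_perp_neg hw)) (hF.bq f n v) - hF.bq f n v - hF.bq f n v = μ • LinearMap.id := fun {w} hw => by
      obtain ⟨μ, hμ⟩ := hbA _ (sO_mem_commutator hF.ndU (Or.inl (two_ne_card h2)) hp hw) v hv
      obtain ⟨μ', hμ'⟩ := hbA _ (sO_mem_commutator hF.ndU (Or.inl (two_ne_card h2)) hp (polar_perp_neg hw)) v hv
      exact ⟨μ + μ', by rw [hμ, hμ']; module⟩
    obtain ⟨μ, hμ⟩ := hd (polar_perp_smul hpw s)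
    obtain ⟨μ', hμ'⟩ := hd hpw
    have h8 := combination hp hpw s hsym
    rw [hμ, hμ'] at h8
    obtain ⟨h9, -⟩ := symP_not_scalar h2 hp hpg (κ := μ - s ^ 2 * μ') fun x => by
      rw [← h8]
      simp only [LinearMap.sub_apply, LinearMap.smul_apply, LinearMap.id_apply]
      module
    have hα : s ^ 2 * (s ^ 2 - 1) * QU w ^ 2 ≠ 0 := by
      refine mul_ne_zero (mul_ne_zero (pow_ne_zero _ hs0) fun e => ?_) (pow_ne_zero _ hw)
      rcases mul_eq_zero.1 (show (s - 1) * (s + 1) = 0 by linear_combination e) with e' | e'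
      · exact hs1' (sub_eq_zero.1 e')
      · exact hs2' (eq_neg_of_add_eq_zero_left e')
    exact (mul_eq_zero.1 h9).resolve_left hα
  obtain ⟨κ₁, hκ₁⟩ := hscal v₁ hC.c1 hs1
  obtain ⟨κ₂, hκ₂⟩ := hscal v₂ hC.c2 hs2
  obtain ⟨v, hv, S, hmq, hS⟩ := hF.eq_mul_radW hC hnq hκ₁ hκ₂
  set x := hF.lp (1, sO hC.hc hv) with hxd
  -- the rest commutes with the first factor
  have hcA : ∀ a ∈ commutator (oG QU), ∀ u, S (a.1 u) = a.1 (S u) := by
    intro a ha u
    obtain ⟨w, hw, e⟩ := hA a ha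
    have hz : ∀ v' : W, polar QW c v' = 0 → (∃ κ : F, ∀ x, hF.bq f n v' x = κ • x) → polar QW w v' = 0 := by
      rintro v' hv' ⟨κ, hκ⟩
      have h7 := congrArg (fun g => hF.bq f g v' (a.1 u)) e
      simp only [hF.bq_mul hC hnq (hF.lpU_conj (f := f) (hF.inQ_inv hnq) a).1 hv', LinearMap.add_apply,
        (hF.lpU_conj (f := f) (hF.inQ_inv hnq) a).2, cnj_apply, hF.bq_inv hC hnq hv', LinearMap.neg_apply,
        oG_inv_apply, hκ, map_neg, map_smul, hF.bq_sW hC hw hv', LinearMap.smul_apply, LinearMap.id_apply,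
        add_neg_cancel] at h7
      rcases eq_or_ne u 0 with hu | hu
      · have h7' := congrArg (fun g => hF.bq f g v' (a.1 a₀)) e
        simp only [hF.bq_mul hC hnq (hF.lpU_conj (f := f) (hF.inQ_inv hnq) a).1 hv', LinearMap.add_apply,
          (hF.lpU_conj (f := f) (hF.inQ_inv hnq) a).2, cnj_apply, hF.bq_inv hC hnq hv', LinearMap.neg_apply,
          oG_inv_apply, hκ, map_neg, map_smul, hF.bq_sW hC hw hv', LinearMap.smul_apply, LinearMap.id_apply,
          add_neg_cancel] at h7'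
        refine (smul_eq_zero.1 h7'.symm).resolve_right fun e0 => ha₀ ?_
        rw [show a₀ = 0 from (LinearEquiv.map_eq_zero_iff a.1).1 e0, QuadraticMap.map_zero]
      · exact (smul_eq_zero.1 h7.symm).resolve_right ((LinearEquiv.map_eq_zero_iff a.1).not.2 hu)
    have hw0 : w = polar QW f w • c := by
      conv_lhs => rw [hC.expand w, hw, polar_comm QW v₁ w, hz v₁ hC.c1 ⟨κ₁, hκ₁⟩, polar_comm QW v₂ w,
        hz v₂ hC.c2 ⟨κ₂, hκ₂⟩]
      simp
    have hnA : Commute n (hF.lp (a, 1)) := by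
      rw [sO_congr hC.hc hw (by rw [polar_smul_right, polar_sing hC.hc, smul_zero]) hw0, sO_smul_self,
        ← Prod.one_eq_mk, map_one] at e
      exact mul_inv_eq_iff_eq_mul.1 (mul_inv_eq_one.1 (show n * hF.lp (a, 1) * n⁻¹ * (hF.lp (a, 1))⁻¹ = 1 by
        rw [← e]; group))
    have hxA : Commute x (hF.lp (a, 1)) := by
      show x * _ = _ * x
      rw [hxd, ← map_mul, ← map_mul, Prod.mk_mul_mk, Prod.mk_mul_mk, one_mul, mul_one, one_mul, mul_one]
    have h10 := congrArg (fun g : oG Q => g.1 (pt u f)) ((hxA.inv_left.mul_left hnA).eq)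
    simp only [oG_mul_apply] at h10
    rw [hF.lp_pt, oG_one_apply, ← oG_mul_apply x⁻¹, ← oG_mul_apply x⁻¹, hS, hS, map_add, hF.lp_pt, oG_one_apply,
      hF.pW_pt, hF.pW_pt, hC.hcf, one_smul, one_smul, hF.lp_pt, oG_one_apply] at h10
    exact hF.pure_inj hC (add_left_cancel h10)
  have hS0 : S = 0 := by
    by_contra h0
    have hsk := hF.radW_skew hC hS
    obtain ⟨p, hp, hSp⟩ := exists_moved h2 hF.ndU hF.dimU_ge hsk h0
    have hp0 : p ≠ 0 := fun e => hSp (by rw [e, map_zero]; exact Submodule.zero_mem _)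
    have hpz : polar QU (S p) p = 0 :=
      (mul_eq_zero.1 (show (2 : F) * polar QU (S p) p = 0 by
        linear_combination hsk p p + polar_comm QU (S p) p)).resolve_left h2
    have hpy : polar QU p (S p) = 0 := by rw [polar_comm, hpz]
    have hy := hF.aniso_of_perp hp0 hp hpy hSp
    have h11 := hcA _ (sO_mem_commutator hF.ndU (Or.inl (two_ne_card h2)) hp hpy) p
    rw [sO_apply, polar_sing hp, hpy] at h11
    simp only [zero_smul, mul_zero, neg_zero, add_zero, sub_zero] at h11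
    rw [sO_apply, polar_self', hpz] at h11
    simp only [zero_smul, mul_zero, neg_zero, add_zero, sub_zero, left_eq_add, smul_eq_zero, mul_eq_zero, h2, hy,
      hp0, or_self] at h11
  have hnx : n = x := (inv_mul_eq_one.1 (ext_oG fun z => by
    rw [hS, hS0, LinearMap.zero_apply, map_zero, LinearMap.zero_apply, add_zero, oG_one_apply])).symm
  rw [hhn, hnx]
  exact hkN.mul (hF.lp_inN _ _)

/-- an element of the group commuting with a Siegel transformation preserves the decomposition -/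
theorem inN_of_commute (hne : ¬ eo Q ≤ H) (hO : Over pt H) {h : oG Q} (hH : h ∈ H) {c c' v v' : W} (hc0 : c ≠ 0)
    (hc : QW c = 0) (hv : polar QW c v = 0) (hc' : QW c' = 0) (hv' : polar QW c' v' = 0) (hq : QW v ≠ 0)
    (e : h * hF.lp (1, sO hc hv) = hF.lp (1, sO hc' hv') * h) (hcc : c' ∈ F ∙ c) : InN pt h.1 := by
  obtain ⟨f, v₁, v₂, hC⟩ := hF.exists_centre' hc0 hc
  obtain ⟨r, rfl⟩ := Submodule.mem_span_singleton.1 hcc
  refine hF.inN_of_stab hne hO hC hH fun u => ?_
  have h1 := hF.sW_sq hc hv (pt u f)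
  have h2 := congrArg h.1 h1
  have e' : ∀ z, h.1 ((hF.lp (1, sO hc hv)).1 z) = (hF.lp (1, sO hc' hv')).1 (h.1 z) := fun z => by
    rw [← oG_mul_apply, e, oG_mul_apply]
  simp only [map_sub, map_smul, e', hF.pW_pt, hC.hcf, one_smul] at h2
  rw [← map_sub, hF.sW_sq hc' hv'] at h2
  refine ⟨((2 * QW v)⁻¹ * (2 * QW v') * r) • hF.pW (r • c) (h.1 (pt u f)), ?_⟩
  have hv0 : -(2 * QW v) ≠ 0 := neg_ne_zero.2 (mul_ne_zero hF.two hq)
  refine smul_right_injective _ hv0 ?_
  show -(2 * QW v) • h.1 (pt u c) = -(2 * QW v) • pt _ c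
  rw [← h2]
  simp only [map_smul, LinearMap.smul_apply, smul_smul]
  congr 1
  field_simp

end Frame4

end Cfsg.Agent.ClassicalMax.OTensor
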