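import Cfsg.Agent.ClassicalMax.OTensor4.Parabolic
import Cfsg.Agent.Classical.OrthChar

/-!
`O₃ ⊗ O₄⁻`: the involutions `-r ⊗ 1` for reflections `r` of the first factor lie in the commutator subgroup.
-/

set_option autoImplicit false
set_option linter.unusedSectionVars false
set_option linter.style.haveILetI false

namespace Cfsg.Agent.ClassicalMax.OTensor

open Module QuadraticMap Cfsg.Agent.Classical Cfsg.Agent.Classical.Quad Cfsg.Agent.ClassicalMax

variable {F U W V : Type*} [Field F] [AddCommGroup U] [Module F U] [FiniteDimensional F U] [AddCommGroup W]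
  [Module F W] [FiniteDimensional F W] [AddCommGroup V] [Module F V] [FiniteDimensional F V]
  {Q : QuadraticForm F V} {QU : QuadraticForm F U} {QW : QuadraticForm F W} {pt : U →ₗ[F] W →ₗ[F] V}
  {H : Subgroup (oG Q)}

/-- the negative of a reflection -/
noncomputable def rho {u : U} (hu : QU u ≠ 0) : oG QU :=
  ⟨(rO hu).1.trans (LinearEquiv.neg F), fun x => by
    show QU (-((rO hu).1 x)) = QU x
    rw [QuadraticMap.map_neg, (rO hu).2]⟩

theorem rho_apply {u : U} (hu : QU u ≠ 0) (x : U) : (rho hu).1 x = (polar QU x u / QU u) • u - x := by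
  show -((rO hu).1 x) = _
  rw [rO_apply, neg_sub]

theorem rho_mul_self {u : U} (hu : QU u ≠ 0) : rho hu * rho hu = 1 := ext_oG fun x => by
  rw [oG_mul_apply, oG_one_apply, rho_apply, rho_apply, polar_sub_left, polar_smul_left, polar_self', smul_eq_mul]
  match_scalars <;> field_simp
  ring

theorem rho_conj (a : oG QU) {u : U} (hu : QU u ≠ 0) :
    a * rho hu * a⁻¹ = rho (u := a.1 u) (by rwa [a.2]) := by
  rw [mul_inv_eq_iff_eq_mul]
  refine ext_oG fun x => ?_
  simp only [oG_mul_apply, rho_apply, map_sub, map_smul, polar_oG, a.2 u]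

theorem rho_congr {u u' : U} (hu : QU u ≠ 0) (hu' : QU u' ≠ 0) (h : u' ∈ F ∙ u) : rho hu' = rho hu := by
  obtain ⟨r, rfl⟩ := Submodule.mem_span_singleton.1 h
  have hr : r ≠ 0 := fun e => hu' (by rw [e, zero_smul, QuadraticMap.map_zero])
  refine ext_oG fun x => ?_
  rw [rho_apply, rho_apply, polar_smul_right, Quad.map_smul', smul_smul, smul_eq_mul]
  congr 2
  field_simp

/-- an orthogonal basis of the first factor -/
structure Orth3 (QU : QuadraticForm F U) (u x y : U) : Prop where
  hu : QU u ≠ 0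
  hx : QU x ≠ 0
  hy : QU y ≠ 0
  ux : polar QU u x = 0
  uy : polar QU u y = 0
  xy : polar QU x y = 0
  expand : ∀ z, z = ((2 * QU u)⁻¹ * polar QU z u) • u + ((2 * QU x)⁻¹ * polar QU z x) • x +
    ((2 * QU y)⁻¹ * polar QU z y) • y

/-- an orthogonal basis of the second factor -/
structure Orth4 (QW : QuadraticForm F W) (e : Fin 4 → W) : Prop where
  orth : ∀ i j, i ≠ j → polar QW (e i) (e j) = 0
  aniso : ∀ i, QW (e i) ≠ 0
  expand : ∀ z, z = ∑ i, ((2 * QW (e i))⁻¹ * polar QW z (e i)) • e i

namespace Frame4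

variable [Finite F] (hF : Frame4 Q QU QW pt)
include hF

theorem exists_orth_one {k : ℕ} {a : Fin k → U} (ha : ∀ i j, i ≠ j → polar QU (a i) (a j) = 0)
    (hd : ∀ i, QU (a i) ≠ 0) (hk : k < 3) : ∃ v, (∀ i, polar QU (a i) v = 0) ∧ QU v ≠ 0 := by
  obtain ⟨v, hv, hvv⟩ := exists_orth_next hF.two (B := polarBilin QU) ⟨fun x y => polar_comm QU x y⟩ hF.ndU ha
    (fun i => by
      show polar QU (a i) (a i) ≠ 0
      rw [polar_self']
      exact mul_ne_zero hF.two (hd i))
    (by rwa [hF.dimU])
  refine ⟨v, hv, fun e => hvv ?_⟩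
  show polar QU v v = 0
  rw [polar_self', e, mul_zero]

theorem mk_orth3 {u x y : U} (hu : QU u ≠ 0) (hx : QU x ≠ 0) (hy : QU y ≠ 0) (ux : polar QU u x = 0)
    (uy : polar QU u y = 0) (xy : polar QU x y = 0) : Orth3 QU u x y := by
  have h2 := hF.two
  refine ⟨hu, hx, hy, ux, uy, xy, fun z => ?_⟩
  have hli : LinearIndependent F ![u, x, y] := by
    rw [Fintype.linearIndependent_iff]
    intro g hg
    simp only [Fin.sum_univ_three, Matrix.cons_val] at hg
    have e0 := congrArg (polar QU u) hg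
    have e1 := congrArg (polar QU x) hg
    have e2 := congrArg (polar QU y) hg
    simp only [polar_add_right, polar_smul_right, smul_eq_mul, polar_zero_right, polar_self', ux, uy, xy,
      polar_comm QU x u, polar_comm QU y u, polar_comm QU y x, mul_zero, zero_add, add_zero, mul_eq_zero, h2, hu, hx,
      hy, false_or, or_false] at e0 e1 e2
    intro i
    fin_cases i <;> assumption
  refine hF.eqU fun w => ?_
  have hw : w ∈ Submodule.span F (Set.range ![u, x, y]) := by
    rw [hli.span_eq_top_of_card_eq_finrank (by rw [Fintype.card_fin, hF.dimU])]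
    exact Submodule.mem_top
  obtain ⟨g, rfl⟩ := (Submodule.mem_span_range_iff_exists_fun _).1 hw
  simp only [Fin.sum_univ_three, Matrix.cons_val, polar_add_right, polar_smul_right, polar_add_left, polar_smul_left,
    polar_self', ux, uy, xy, polar_comm QU x u, polar_comm QU y u, polar_comm QU y x, smul_eq_mul, mul_zero,
    zero_add, add_zero]
  field_simp

theorem exists_orth3 {u : U} (hu : QU u ≠ 0) : ∃ x y, Orth3 QU u x y := by
  obtain ⟨x, hx, hxq⟩ := hF.exists_orth_one (a := ![u]) (fun i j h => absurd (Subsingleton.elim i j) h)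
    (fun i => by simpa [Fin.fin_one_eq_zero i] using hu) (by omega)
  have hux : polar QU u x = 0 := hx 0
  obtain ⟨y, hy, hyq⟩ := hF.exists_orth_one (a := ![u, x])
    (fun i j h => by fin_cases i <;> fin_cases j <;> simp_all [polar_comm QU x u])
    (fun i => by fin_cases i <;> simpa) (by omega)
  exact ⟨x, y, hF.mk_orth3 hu hxq hyq hux (hy 0) (hy 1)⟩

theorem rho_eq {u x y : U} (hO : Orth3 QU u x y) : rho hO.hu = rO hO.hx * rO hO.hy := ext_oG fun z => by
  rw [oG_mul_apply, rho_apply, rO_apply, rO_apply, polar_sub_left, polar_smul_left, polar_comm QU y x, hO.xy,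
    smul_zero, sub_zero]
  have h2 := hF.two
  have hu := hO.hu; have hx := hO.hx; have hy := hO.hy
  conv_lhs => enter [2]; rw [hO.expand z]
  conv_rhs => enter [1, 1]; rw [hO.expand z]
  match_scalars <;> field_simp <;> ring

theorem exists_orth4 : ∃ e : Fin 4 → W, Orth4 QW e := by
  have h2 := hF.two
  obtain ⟨c, hc0, hc⟩ := exists_singular QW (by rw [hF.dimW]; omega)
  obtain ⟨f, v₁, v₂, hC⟩ := hF.exists_centre' hc0 hc
  have q1 := hC.q1; have q2 := hC.q2
  refine ⟨![c + f, c - f, v₁, v₂], fun i j h => ?_, fun i => ?_, fun z => ?_⟩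
  · fin_cases i <;> fin_cases j <;> first
      | exact absurd rfl h
      | simp [polar_add_left, polar_add_right, polar_sub_left, polar_sub_right, polar_self', hC.hc, hC.hf, hC.hcf,
          hC.c1, hC.c2, hC.f1, hC.f2, hC.h12, polar_comm QW f c, polar_comm QW v₁ c, polar_comm QW v₁ f,
          polar_comm QW v₂ c, polar_comm QW v₂ f, polar_comm QW v₂ v₁]
  · have e1 : QW (c + f) = 1 := by rw [map_add', hC.hc, hC.hf, hC.hcf]; ring
    have e2 : QW (c - f) = -1 := by
      rw [sub_eq_add_neg, map_add', polar_neg_right, QuadraticMap.map_neg, hC.hc, hC.hf, hC.hcf]; ring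
    fin_cases i <;> simp [e1, e2, hC.q1, hC.q2]
  · have e1 : QW (c + f) = 1 := by rw [map_add', hC.hc, hC.hf, hC.hcf]; ring
    have e2 : QW (c - f) = -1 := by
      rw [sub_eq_add_neg, map_add', polar_neg_right, QuadraticMap.map_neg, hC.hc, hC.hf, hC.hcf]; ring
    simp only [Fin.sum_univ_four, Matrix.cons_val, e1, e2, polar_add_right, polar_sub_right]
    conv_lhs => rw [hC.expand z]
    simp only [polar_comm QW z]
    match_scalars <;> field_simp <;> ring

/-- a reflection of the first factor is a product of four reflections -/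
theorem lp_refl {x : U} (hx : QU x ≠ 0) {e : Fin 4 → W} (he : Orth4 QW e) :
    ∃ h : ∀ i, Q (pt x (e i)) ≠ 0,
      hF.lp (rO hx, 1) = rO (h 0) * rO (h 1) * rO (h 2) * rO (h 3) := by
  have h2 := hF.two
  have h : ∀ i, Q (pt x (e i)) ≠ 0 := fun i => by
    rw [hF.Q_pure]
    exact mul_ne_zero (mul_ne_zero h2 hx) (he.aniso i)
  refine ⟨h, ext_oG fun z => LinearMap.congr_fun (f := (hF.lp (rO hx, 1)).1.toLinearMap)
    (g := (rO (h 0) * rO (h 1) * rO (h 2) * rO (h 3)).1.toLinearMap) (hF.ext_pure fun u w => ?_) z⟩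
  have hq := fun i => he.aniso i
  have ho : ∀ i j, i ≠ j → polar Q (pt x (e i)) (pt x (e j)) = 0 := fun i j hij => by
    rw [hF.prod, he.orth i j hij, mul_zero]
  simp only [LinearEquiv.coe_coe, hF.lp_pt, oG_one_apply, oG_mul_apply, rO_apply, polar_sub_left, polar_smul_left,
    ho 3 2 (by decide), ho 3 1 (by decide), ho 3 0 (by decide), ho 2 1 (by decide), ho 2 0 (by decide),
    ho 1 0 (by decide), smul_zero, sub_zero, hF.prod, hF.Q_pure, map_sub, map_smul, LinearMap.sub_apply,
    LinearMap.smul_apply]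
  conv_lhs => rw [he.expand w]
  conv_rhs => enter [1, 1, 1, 1]; rw [he.expand w]
  have h0 := hq 0; have h1 := hq 1; have h2' := hq 2; have h3 := hq 3
  simp only [Fin.sum_univ_four, map_add, map_smul]
  match_scalars <;> field_simp <;> ring

/-- the negative of a reflection of the first factor gives an element of the commutator subgroup -/
theorem lp_rho_mem {u : U} (hu : QU u ≠ 0) : hF.lp (rho hu, 1) ∈ commutator (oG Q) := by
  have h2 := hF.two
  have : Finite V := Module.finite_of_finite F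
  have hex : Nat.card F ≠ 2 ∨ finrank F V ≠ 4 := Or.inl (two_ne_card h2)
  obtain ⟨x, y, hO⟩ := hF.exists_orth3 hu
  obtain ⟨e, he⟩ := hF.exists_orth4
  obtain ⟨hx, ex⟩ := hF.lp_refl hO.hx he
  obtain ⟨hy, ey⟩ := hF.lp_refl hO.hy he
  have hd : hF.lp (rho hu, 1) = hF.lp (rO hO.hx, 1) * hF.lp (rO hO.hy, 1) := by
    rw [← map_mul, Prod.mk_mul_mk, one_mul, ← hF.rho_eq hO]
  rw [mem_commutator_chars hF.nd hex, hd, ex, ey]
  refine ⟨by simp only [map_mul, dickson_rO]; decide, fun _ => ?_⟩
  have hqs : ∀ (x : U) (hx : QU x ≠ 0) (i : Fin 4), qs (Q (pt x (e i))) = qs (2 * QU x) * qs (QW (e i)) :=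
    fun x hx i => by rw [hF.Q_pure, qs_mul (mul_ne_zero h2 hx) (he.aniso i)]
  have hz : ∀ a : ℤˣ, a * a = 1 := Int.units_mul_self
  simp only [map_mul, spin_rO_qs h2, hqs x hO.hx, hqs y hO.hy]
  rcases Int.units_eq_one_or (qs (2 * QU x)) with a | a <;> rcases Int.units_eq_one_or (qs (2 * QU y)) with b | b <;>
    rcases Int.units_eq_one_or (qs (QW (e 0))) with c | c <;> rcases Int.units_eq_one_or (qs (QW (e 1))) with d | d <;>
    rcases Int.units_eq_one_or (qs (QW (e 2))) with g | g <;> rcases Int.units_eq_one_or (qs (QW (e 3))) with k | k <;>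
    simp only [a, b, c, d, g, k] <;> decide

end Frame4

end Cfsg.Agent.ClassicalMax.OTensor
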