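import Cfsg.Agent.ClassicalMax.OTensor4.Spread
import Cfsg.Agent.ClassicalMax.OTensor.Symm

/-!
`O₃ ⊗ O₄⁻`: unless the group has every Siegel transformation, its part in the radical of the stabiliser of `U ⊗ c`
consists of the Siegel transformations of the second factor.
-/

set_option autoImplicit false
set_option linter.unusedSectionVars false
set_option linter.style.haveILetI false

namespace Cfsg.Agent.ClassicalMax.OTensor

open Module QuadraticMap Cfsg.Agent.Classical Cfsg.Agent.Classical.Quad Cfsg.Agent.ClassicalMax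

variable {F U W V : Type*} [Field F] [Finite F] [AddCommGroup U] [Module F U] [FiniteDimensional F U]
  [AddCommGroup W] [Module F W] [FiniteDimensional F W] [AddCommGroup V] [Module F V] [FiniteDimensional F V]
  {Q : QuadraticForm F V} {QU : QuadraticForm F U} {QW : QuadraticForm F W} {pt : U →ₗ[F] W →ₗ[F] V}
  {H : Subgroup (oG Q)}

/-- conjugation of an operator by an isometry -/
def cnj (a : oG QU) (B : U →ₗ[F] U) : U →ₗ[F] U := a.1.toLinearMap ∘ₗ B ∘ₗ (a⁻¹).1.toLinearMap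

theorem cnj_apply (a : oG QU) (B : U →ₗ[F] U) (u : U) : cnj a B u = a.1 (B ((a⁻¹).1 u)) := rfl

theorem cnj_smul (a : oG QU) (t : F) (B : U →ₗ[F] U) : cnj a (t • B) = t • cnj a B :=
  LinearMap.ext fun u => by simp [cnj_apply]

/-- the second difference of a symmetric operator under conjugation by Siegel transformations -/
theorem second_diff {p v : U} (hp : QU p = 0) (hv : polar QU p v = 0) {B : U →ₗ[F] U}
    (hB : ∀ x y, polar QU (B x) y = polar QU x (B y)) :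
    cnj (sO hp hv) B + cnj (sO hp (polar_perp_neg hv)) B - B - B =
      symP QU p ((-(2 * QU v)) • B p + (-(2 * polar QU (B p) v)) • v +
        (polar QU (B v) v + QU v * QU v * polar QU (B p) p) • p) + polar QU (B p) p • symP QU v v := by
  refine LinearMap.ext fun x => ?_
  simp only [cnj, sO_inv hp hv, sO_inv hp (polar_perp_neg hv)]
  rw [sO_congr hp (polar_perp_neg (polar_perp_neg hv)) hv (neg_neg v)]
  simp only [LinearMap.sub_apply, LinearMap.add_apply, LinearMap.comp_apply, LinearMap.smul_apply,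
    LinearEquiv.coe_coe, sO_apply, symP_apply, polar_sub_left, polar_add_left, polar_smul_left, polar_neg_right,
    polar_smul_right, QuadraticMap.map_neg, map_add, map_smul, map_neg, polar_comm QU _ p, polar_comm QU _ v, hv,
    polar_sing hp, polar_self', smul_eq_mul]
  have f1 : ∀ x, polar QU p (B x) = polar QU (B p) x := fun x => (hB p x).symm
  have f2 : ∀ x, polar QU v (B x) = polar QU (B v) x := fun x => (hB v x).symm
  simp only [f1, f2]
  have f3 : polar QU (B v) p = polar QU (B p) v := by rw [hB, polar_comm]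
  simp only [f3]
  module

/-- the combination killing all but the square of `p` -/
theorem combination {p v : U} (hp : QU p = 0) (hv : polar QU p v = 0) (s : F) {B : U →ₗ[F] U}
    (hB : ∀ x y, polar QU (B x) y = polar QU x (B y)) :
    cnj (sO hp (polar_perp_smul hv s)) B + cnj (sO hp (polar_perp_neg (polar_perp_smul hv s))) B - B - B -
      s ^ 2 • (cnj (sO hp hv) B + cnj (sO hp (polar_perp_neg hv)) B - B - B) =
      (s ^ 2 * (s ^ 2 - 1) * QU v ^ 2 * polar QU (B p) p) • symP QU p p := by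
  rw [second_diff hp _ hB, second_diff hp hv hB]
  refine LinearMap.ext fun x => ?_
  simp only [LinearMap.smul_apply, LinearMap.sub_apply, LinearMap.add_apply, symP_apply, Quad.map_smul', map_smul,
    polar_smul_left, polar_smul_right, polar_add_left, smul_eq_mul]
  module

/-- the square of a singular vector is not scalar -/
theorem symP_not_scalar {p g : U} (h2 : (2 : F) ≠ 0) (hp : QU p = 0) (hpg : polar QU p g = 1) {a κ : F}
    (h : ∀ x, (a • symP QU p p) x = κ • x) : a = 0 ∧ κ = 0 := by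
  have hp0 : p ≠ 0 := fun e => by rw [e] at hpg; simp [polar] at hpg
  have h1 := h p
  rw [LinearMap.smul_apply, symP_apply, polar_sing hp, zero_smul, add_zero, smul_zero, eq_comm, smul_eq_zero] at h1
  have hκ := h1.resolve_right hp0
  refine ⟨?_, hκ⟩
  have h3 := h g
  rw [LinearMap.smul_apply, symP_apply, hpg, one_smul, hκ, zero_smul, ← two_smul F p, smul_smul, smul_eq_zero] at h3
  exact (mul_eq_zero.1 (h3.resolve_right hp0)).resolve_right h2

namespace Frame4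

variable (hF : Frame4 Q QU QW pt)
include hF

theorem exists_centre' {c : W} (hc0 : c ≠ 0) (hc : QW c = 0) : ∃ f v₁ v₂, Centre QW c f v₁ v₂ := by
  obtain ⟨f₀, hf₀, hcf₀⟩ := exists_hyp_pair hF.ndW hc0 hc
  obtain ⟨v, hcv, -, hv⟩ := exists_aniso_perp hF.ndW (by rw [hF.dimW]; omega) hc hf₀ hcf₀
  obtain ⟨f, v₂, hC⟩ := hF.exists_centre hc0 hc hcv hv
  exact ⟨f, v, v₂, hC⟩

theorem centre_ne {c f v₁ v₂ : W} (hC : Centre QW c f v₁ v₂) : c ≠ 0 := fun e => by
  have := hC.hcf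
  rw [e] at this
  simp [polar] at this

/-- a pair fixing `c` up to a scalar conjugates the radical into itself -/
theorem inQ_conj {c : W} {h : oG Q} (hh : ∀ u, ∃ u', h.1 (pt u c) = pt u' c) {n : oG Q} (hn : hF.InQ c n)
    (hsurj : ∀ u', ∃ u, h.1 (pt u c) = pt u' c) : hF.InQ c (h * n * h⁻¹) := by
  refine ⟨fun u' => ?_, fun z hz => ?_⟩
  · obtain ⟨u, hu⟩ := hsurj u'
    rw [oG_mul_apply, oG_mul_apply, ← hu, oG_inv_apply, hn.1]
  · have hz' : hF.pW c ((h⁻¹).1 z) = 0 := hF.eqU fun u => by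
      obtain ⟨u', hu'⟩ := hh u
      rw [hF.polar_pW, ← polar_oG h, oG_apply_inv, hu', ← hF.polar_pW, hz]
      simp [polar]
    obtain ⟨u, hu⟩ := hn.2 _ hz'
    obtain ⟨u', hu'⟩ := hh u
    exact ⟨u', by rw [oG_mul_apply, oG_mul_apply, hu, map_add, oG_apply_inv, hu']⟩

variable {c f v₁ v₂ : W}

theorem pW_sW (hC : Centre QW c f v₁ v₂) {v w : W} (hv : polar QW c v = 0) (hcw : polar QW c w = 0)
    (hfw : polar QW f w = 0) (u : U) :
    hF.pW w ((hF.lp (1, sO hC.hc hv)).1 (pt u f)) = -polar QW v w • u := by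
  rw [hF.lp_pt, oG_one_apply, hF.pW_pt, sO_apply]
  simp [polar_add_right, polar_smul_right, polar_comm QW w c, hcw, polar_comm QW w f, hfw, hC.hcf,
    polar_comm QW f c, polar_comm QW w v]

/-- commuting with the Siegel transformations makes the components symmetric -/
theorem symm_of_comS (hC : Centre QW c f v₁ v₂) {n : oG Q} (hn : hF.InQ c n)
    (h₁ : hF.comS c f v₁ v₂ n (hF.lp (1, sO hC.hc hC.c1)) = 0) (h₂ : hF.comS c f v₁ v₂ n (hF.lp (1, sO hC.hc hC.c2)) = 0) :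
    (∀ x y, polar QU (hF.bq f n v₁ x) y = polar QU x (hF.bq f n v₁ y)) ∧
      ∀ x y, polar QU (hF.bq f n v₂ x) y = polar QU x (hF.bq f n v₂ y) := by
  have h2 := hF.two
  have key : ∀ (v : W) (hv : polar QW c v = 0), hF.comS c f v₁ v₂ n (hF.lp (1, sO hC.hc hv)) = 0 → ∀ x y : U,
      (2 * QW v₁)⁻¹ * polar QW v v₁ * (polar QU (hF.bq f n v₁ x) y - polar QU x (hF.bq f n v₁ y)) +
        (2 * QW v₂)⁻¹ * polar QW v v₂ * (polar QU (hF.bq f n v₂ x) y - polar QU x (hF.bq f n v₂ y)) = 0 := by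
    intro v hv h x y
    have h1 := congrArg (fun S => polar QU (S x) y) h
    simp only [comS, LinearMap.add_apply, LinearMap.smul_apply, LinearMap.sub_apply, LinearMap.comp_apply,
      LinearEquiv.coe_coe, LinearMap.flip_apply, hF.bq_sW hC hv hC.c1, hF.bq_sW hC hv hC.c2,
      hF.pW_sW hC hv hC.c1 hC.f1, hF.pW_sW hC hv hC.c2 hC.f2, LinearMap.id_apply, map_smul, polar_add_left,
      polar_sub_left, sub_eq_add_neg, LinearMap.neg_apply, polar_neg_left, polar_smul_left, hF.pW_v_apply hC hn hC.c1 hC.f1,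
      hF.pW_v_apply hC hn hC.c2 hC.f2, LinearMap.zero_apply, polar_zero_left, smul_eq_mul] at h1
    linear_combination -h1
  refine ⟨fun x y => sub_eq_zero.1 ?_, fun x y => sub_eq_zero.1 ?_⟩
  · have := key v₁ hC.c1 h₁ x y
    rw [polar_self', hC.h12, mul_zero, zero_mul, add_zero, inv_mul_cancel₀ (mul_ne_zero h2 hC.q1), one_mul] at this
    exact this
  · have := key v₂ hC.c2 h₂ x y
    rw [polar_self', polar_comm QW v₂ v₁, hC.h12, mul_zero, zero_mul, zero_add,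
      inv_mul_cancel₀ (mul_ne_zero h2 hC.q2), one_mul] at this
    exact this

theorem comS_zero (hne : ¬ eo Q ≤ H) (hO : Over pt H) (hC : Centre QW c f v₁ v₂) {n n' : oG Q} (hn : hF.InQ c n)
    (hn' : hF.InQ c n') (hnH : n ∈ H) (hn'H : n' ∈ H) : hF.comS c f v₁ v₂ n n' = 0 := by
  obtain ⟨g, hg, hz⟩ := hF.radW_comm hC hn hn' hnH hn'H
  by_contra h0
  exact hne (hF.eo_le_of_radW hO (hF.centre_ne hC) hC.hc (hF.radW_skew hC hz) h0 ⟨g, hg, hz⟩)

theorem symm_of_mem (hne : ¬ eo Q ≤ H) (hO : Over pt H) (hC : Centre QW c f v₁ v₂) {n : oG Q} (hn : hF.InQ c n)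
    (hnH : n ∈ H) :
    (∀ x y, polar QU (hF.bq f n v₁ x) y = polar QU x (hF.bq f n v₁ y)) ∧
      ∀ x y, polar QU (hF.bq f n v₂ x) y = polar QU x (hF.bq f n v₂ y) :=
  hF.symm_of_comS hC hn (hF.comS_zero hne hO hC hn (hF.inQ_sW hC.hc hC.c1) hnH (hO.sW_mem4 hF hC.hc hC.c1))
    (hF.comS_zero hne hO hC hn (hF.inQ_sW hC.hc hC.c2) hnH (hO.sW_mem4 hF hC.hc hC.c2))

/-- the parameters of the elements of the group -/
def Par (H : Subgroup (oG Q)) (c f v₁ v₂ : W) (B₁ B₂ : U →ₗ[F] U) : Prop :=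
  ∃ n ∈ H, hF.InQ c n ∧ hF.bq f n v₁ = B₁ ∧ hF.bq f n v₂ = B₂

theorem par_add (hC : Centre QW c f v₁ v₂) {A A' B B' : U →ₗ[F] U} (h : hF.Par H c f v₁ v₂ A B)
    (h' : hF.Par H c f v₁ v₂ A' B') : hF.Par H c f v₁ v₂ (A + A') (B + B') := by
  obtain ⟨n, hn, hq, rfl, rfl⟩ := h
  obtain ⟨n', hn', hq', rfl, rfl⟩ := h'
  exact ⟨n * n', mul_mem hn hn', hF.inQ_mul hC hq hq', hF.bq_mul hC hq hq' hC.c1, hF.bq_mul hC hq hq' hC.c2⟩

theorem par_sub (hC : Centre QW c f v₁ v₂) {A A' B B' : U →ₗ[F] U} (h : hF.Par H c f v₁ v₂ A B)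
    (h' : hF.Par H c f v₁ v₂ A' B') : hF.Par H c f v₁ v₂ (A - A') (B - B') := by
  obtain ⟨n', hn', hq', rfl, rfl⟩ := h'
  rw [sub_eq_add_neg, sub_eq_add_neg]
  exact hF.par_add hC h ⟨n'⁻¹, inv_mem hn', hF.inQ_inv hq', hF.bq_inv hC hq' hC.c1, hF.bq_inv hC hq' hC.c2⟩

theorem lpU_conj {n : oG Q} (hq : hF.InQ c n) (a : oG QU) :
    hF.InQ c (hF.lp (a, 1) * n * (hF.lp (a, 1))⁻¹) ∧
      ∀ v, hF.bq f (hF.lp (a, 1) * n * (hF.lp (a, 1))⁻¹) v = cnj a (hF.bq f n v) := by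
  refine ⟨hF.inQ_conj (fun u => ⟨a.1 u, by rw [hF.lp_pt, oG_one_apply]⟩) hq
    fun u => ⟨(a⁻¹).1 u, by rw [hF.lp_pt, oG_one_apply, oG_apply_inv]⟩, fun v => LinearMap.ext fun u => ?_⟩
  rw [cnj_apply, hF.bq_apply, hF.bq_apply, oG_mul_apply, oG_mul_apply]
  have e1 : ((hF.lp (a, 1))⁻¹).1 (pt u v) = pt ((a⁻¹).1 u) v := by
    rw [← map_inv, Prod.inv_mk, inv_one, hF.lp_pt, oG_one_apply]
  have e2 : ∀ z, hF.pW f ((hF.lp (a, 1)).1 z) = a.1 (hF.pW f z) := fun z => by
    simpa using hF.pW_lp a 1 f z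
  rw [e1, e2, map_sub, map_smul, oG_apply_inv]

theorem par_cnj (hO : Over pt H) {A B : U →ₗ[F] U} (h : hF.Par H c f v₁ v₂ A B) {a : oG QU}
    (ha : a ∈ commutator (oG QU)) : hF.Par H c f v₁ v₂ (cnj a A) (cnj a B) := by
  obtain ⟨n, hn, hq, rfl, rfl⟩ := h
  have hk := hO.lp_memC hF.toCore ha (one_mem (commutator (oG QW)))
  exact ⟨_, mul_mem (mul_mem hk hn) (inv_mem hk), (hF.lpU_conj (f := f) hq a).1, (hF.lpU_conj hq a).2 _,
    (hF.lpU_conj hq a).2 _⟩

theorem par_sq (hO : Over pt H) (hC : Centre QW c f v₁ v₂) {A B : U →ₗ[F] U} (h : hF.Par H c f v₁ v₂ A B) (t : F) :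
    hF.Par H c f v₁ v₂ (t ^ 2 • A) (t ^ 2 • B) := by
  rcases eq_or_ne t 0 with rfl | ht
  · have := hF.par_sub hC h h
    simpa using this
  have h2 := hF.two
  have hv : ∀ s : F, QW (c + s • f) = s := fun s => by rw [map_add_smul, hC.hc, hC.hf, hC.hcf]; ring
  have hv1 : QW (c + (1 : F) • f) ≠ 0 := by rw [hv]; exact one_ne_zero
  have hvt : QW (c + (t⁻¹ * t⁻¹) • f) ≠ 0 := by rw [hv]; simpa using ht
  have hrc : ∀ (s : F) (hs : QW (c + s • f) ≠ 0), (rO hs).1 c = (-s) • f ∧ (rO hs).1 f = (-s⁻¹) • c ∧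
      (rO hs).1 v₁ = v₁ ∧ (rO hs).1 v₂ = v₂ := fun s hs => by
    have hs0 : s ≠ 0 := by simpa [hv] using hs
    refine ⟨?_, ?_, ?_, ?_⟩
    · rw [rO_apply, hv, polar_add_right, polar_smul_right, polar_sing hC.hc, hC.hcf, smul_eq_mul, mul_one, zero_add,
        div_self hs0]
      module
    · rw [rO_apply, hv, polar_add_right, polar_smul_right, polar_sing hC.hf, polar_comm QW f c, hC.hcf, smul_zero,
        add_zero, one_div, smul_add, smul_smul, inv_mul_cancel₀ hs0]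
      module
    · rw [rO_apply, polar_add_right, polar_smul_right, polar_comm QW v₁ c, hC.c1, polar_comm QW v₁ f, hC.f1,
        smul_zero, add_zero, zero_div, zero_smul, sub_zero]
    · rw [rO_apply, polar_add_right, polar_smul_right, polar_comm QW v₂ c, hC.c2, polar_comm QW v₂ f, hC.f2,
        smul_zero, add_zero, zero_div, zero_smul, sub_zero]
  set k := rO hvt * rO hv1 with hkd
  have hk : hF.lp (1, k) ∈ H :=
    hO.lp_memC hF.toCore (one_mem _) (rO_mul_mem_commutator hF.ndW hvt hv1 (t := t) (by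
      rw [hv, hv]; field_simp))
  have hkc : k.1 c = t ^ 2 • c := by
    rw [oG_mul_apply, (hrc _ hv1).1, map_smul, (hrc _ hvt).2.1, smul_smul]
    congr 1
    field_simp
  have hkf : k.1 f = (t ^ 2)⁻¹ • f := by
    rw [oG_mul_apply, (hrc _ hv1).2.1, map_smul, (hrc _ hvt).1, smul_smul]
    congr 1
    field_simp
  have hk1 : k.1 v₁ = v₁ := by rw [oG_mul_apply, (hrc _ hv1).2.2.1, (hrc _ hvt).2.2.1]
  have hk2 : k.1 v₂ = v₂ := by rw [oG_mul_apply, (hrc _ hv1).2.2.2, (hrc _ hvt).2.2.2]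
  obtain ⟨n, hn, hq, rfl, rfl⟩ := h
  have hq' : hF.InQ c (hF.lp (1, k) * n * (hF.lp (1, k))⁻¹) := by
    refine hF.inQ_conj (fun u => ⟨t ^ 2 • u, ?_⟩) hq fun u => ⟨(t ^ 2)⁻¹ • u, ?_⟩
    · rw [hF.lp_pt, oG_one_apply, hkc, map_smul, map_smul, LinearMap.smul_apply]
    · rw [hF.lp_pt, oG_one_apply, hkc, map_smul, map_smul pt, LinearMap.smul_apply, smul_smul,
        mul_inv_cancel₀ (pow_ne_zero 2 ht), one_smul]
  have e : ∀ v, k.1 v = v → polar QW c v = 0 → hF.bq f (hF.lp (1, k) * n * (hF.lp (1, k))⁻¹) v = t ^ 2 • hF.bq f n v := by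
    intro v hkv hcv
    refine LinearMap.ext fun u => ?_
    have e1 : ((hF.lp (1, k))⁻¹).1 (pt u v) = pt u v := (hF.lp (1, k)).1.injective (by
      rw [oG_apply_inv, hF.lp_pt, oG_one_apply, hkv])
    rw [LinearMap.smul_apply, hF.bq_apply, oG_mul_apply, oG_mul_apply, e1, hF.perp_apply hC hq hcv, map_add, hF.lp_pt,
      hF.lp_pt, oG_one_apply, oG_one_apply, hkv, hkc, map_smul, map_add, map_smul, hF.pW_pt, hF.pW_pt,
      polar_comm QW f c, hC.hcf, one_smul, add_sub_cancel_left]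
  exact ⟨_, mul_mem (mul_mem hk hn) (inv_mem hk), hq', e _ hk1 hC.c1, e _ hk2 hC.c2⟩

/-- the components are scalar -/
theorem scalar_of_mem (hne : ¬ eo Q ≤ H) (hO : Over pt H) (hC : Centre QW c f v₁ v₂) {n : oG Q} (hn : hF.InQ c n)
    (hnH : n ∈ H) :
    (∃ κ : F, ∀ x, hF.bq f n v₁ x = κ • x) ∧ ∃ κ : F, ∀ x, hF.bq f n v₂ x = κ • x := by
  have h2 := hF.two
  obtain ⟨hs1, hs2⟩ := hF.symm_of_mem hne hO hC hn hnH
  set B₁ := hF.bq f n v₁ with hB1
  set B₂ := hF.bq f n v₂ with hB2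
  have hcone : ∀ p, QU p = 0 → polar QU (B₁ p) p = 0 ∧ polar QU (B₂ p) p = 0 := by
    intro p hp
    rcases eq_or_ne p 0 with rfl | hp0
    · simp [polar]
    obtain ⟨g, hg, hpg⟩ := exists_hyp_pair hF.ndU hp0 hp
    have hg0 : g ≠ 0 := fun e => by rw [e] at hpg; simp [polar] at hpg
    obtain ⟨v, hpv, -, hv⟩ := exists_aniso_perp hF.ndU hF.dimU_ge hp hg hpg
    obtain ⟨s, hs0, hs1', hs2'⟩ := exists_scale hF.q5
    have mem : ∀ {w : U} (hw : polar QU p w = 0), sO hp hw ∈ commutator (oG QU) := fun hw =>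
      sO_mem_commutator hF.ndU (Or.inl (two_ne_card h2)) hp hw
    have h0 : hF.Par H c f v₁ v₂ B₁ B₂ := ⟨n, hnH, hn, rfl, rfl⟩
    have hd : ∀ {w : U} (hw : polar QU p w = 0), hF.Par H c f v₁ v₂
        (cnj (sO hp hw) B₁ + cnj (sO hp (polar_perp_neg hw)) B₁ - B₁ - B₁)
        (cnj (sO hp hw) B₂ + cnj (sO hp (polar_perp_neg hw)) B₂ - B₂ - B₂) := fun hw =>
      hF.par_sub hC (hF.par_sub hC (hF.par_add hC (hF.par_cnj hO h0 (mem hw))
        (hF.par_cnj hO h0 (mem (polar_perp_neg hw)))) h0) h0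
    have h1 := hF.par_sub hC (hd (polar_perp_smul hpv s)) (hF.par_sq hO hC (hd hpv) s)
    rw [combination hp hpv s hs1, combination hp hpv s hs2] at h1
    set α := s ^ 2 * (s ^ 2 - 1) * QU v ^ 2 with hα
    have hα0 : α ≠ 0 := by
      refine mul_ne_zero (mul_ne_zero (pow_ne_zero _ hs0) fun e => ?_) (pow_ne_zero _ hv)
      rcases mul_eq_zero.1 (show (s - 1) * (s + 1) = 0 by linear_combination e) with e' | e'
      · exact hs1' (sub_eq_zero.1 e')
      · exact hs2' (eq_neg_of_add_eq_zero_left e')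
    set κ₁ := α * polar QU (B₁ p) p
    set κ₂ := α * polar QU (B₂ p) p
    obtain ⟨a, ha, t, ht, hae⟩ := exists_eo_point hF.ndU hF.dimU_ge hp0 hp hg0 hg
    rw [eo_eq_commutator hF.ndU hF.dimU_ge (Or.inl (two_ne_card h2))] at ha
    have h3 := hF.par_cnj hO h1 ha
    obtain ⟨m, hm, hmq, hm1, hm2⟩ := h1
    obtain ⟨m', hm', hmq', hm1', hm2'⟩ := h3
    have hS := hF.comS_zero hne hO hC hmq hmq' hm hm'
    obtain ⟨hsm1, hsm2⟩ := hF.symm_of_mem hne hO hC hmq hm
    obtain ⟨hsm1', hsm2'⟩ := hF.symm_of_mem hne hO hC hmq' hm'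
    have hpw : ∀ (n : oG Q) (hq : hF.InQ c n) (w : W), polar QW c w = 0 → polar QW f w = 0 →
        (∀ x y, polar QU (hF.bq f n w x) y = polar QU x (hF.bq f n w y)) → ∀ u,
        hF.pW w (n.1 (pt u f)) = -hF.bq f n w u := fun n hq w hcw hfw hsy u => hF.eqU fun u' => by
      rw [hF.pW_v_apply hC hq hcw hfw, polar_neg_left, hsy]
    have h4 := LinearMap.congr_fun hS p
    simp only [comS, LinearMap.add_apply, LinearMap.smul_apply, LinearMap.sub_apply, LinearMap.comp_apply,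
      LinearEquiv.coe_coe, LinearMap.flip_apply, hpw _ hmq' _ hC.c1 hC.f1 hsm1', hpw _ hmq _ hC.c1 hC.f1 hsm1,
      hpw _ hmq' _ hC.c2 hC.f2 hsm2', hpw _ hmq _ hC.c2 hC.f2 hsm2, hm1, hm2, hm1', hm2', map_neg,
      LinearMap.zero_apply] at h4
    have hsp : ∀ x, symP QU p p x = (2 * polar QU p x) • p := fun x => by rw [symP_apply]; module
    have hsa : ∀ x, cnj a (symP QU p p) x = (2 * t * t * polar QU g x) • g := fun x => by
      rw [cnj_apply, symP_conj, hae, symP_apply, polar_smul_left, smul_eq_mul]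
      module
    simp only [cnj_smul, LinearMap.smul_apply, hsp, hsa, map_smul, map_neg, polar_sing hp, polar_comm QU g p, hpg,
      smul_smul, polar_smul_right, polar_sing hg, mul_zero, mul_one, zero_smul, map_zero, neg_zero, smul_zero,
      sub_zero, zero_sub] at h4
    have h5 : (((2 * QW v₁)⁻¹ * (κ₁ * κ₁) + (2 * QW v₂)⁻¹ * (κ₂ * κ₂)) * (4 * t * t)) • p = 0 := by
      linear_combination (norm := module) -h4
    rw [smul_eq_zero] at h5
    have h6 := h5.resolve_right hp0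
    have h4' : (4 : F) * t * t ≠ 0 := by
      rw [show (4 : F) = 2 * 2 by norm_num]
      exact mul_ne_zero (mul_ne_zero (mul_ne_zero h2 h2) ht) ht
    have h7 := (mul_eq_zero.1 h6).resolve_right h4'
    have h8 : QW (κ₂ • v₁ + κ₁ • v₂) = 0 := by
      have e := hC.q1; have e' := hC.q2
      rw [map_add', Quad.map_smul', Quad.map_smul', polar_smul_left, polar_smul_right, hC.h12]
      field_simp at h7
      simp only [smul_zero, add_zero]
      linear_combination h7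
    have h9 : κ₂ • v₁ + κ₁ • v₂ = 0 := by
      obtain ⟨r, hr⟩ := Submodule.mem_span_singleton.1 (hF.ellW c _ hC.hc h8
        (by rw [polar_add_right, polar_smul_right, polar_smul_right, hC.c1, hC.c2]; simp) (hF.centre_ne hC))
      have := congrArg (polar QW f) hr
      simp only [polar_add_right, polar_smul_right, polar_comm QW f c, hC.hcf, hC.f1, hC.f2, smul_zero, add_zero,
        smul_eq_mul, mul_one, mul_zero, zero_add] at this
      rw [← hr, this, zero_smul]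
    have e1 := congrArg (polar QW v₁) h9
    have e2 := congrArg (polar QW v₂) h9
    simp only [polar_add_right, polar_smul_right, polar_self', hC.h12, polar_comm QW v₂ v₁, smul_eq_mul, mul_zero,
      add_zero, zero_add, polar_zero_right, mul_eq_zero, h2, hC.q1, hC.q2, or_false, κ₁, κ₂, hα0, false_or] at e1 e2
    exact ⟨e2, e1⟩
  exact ⟨scalar_of_cone h2 hF.ndU hF.dimU_ge hF.q5 hs1 fun p hp => (hcone p hp).1,
    scalar_of_cone h2 hF.ndU hF.dimU_ge hF.q5 hs2 fun p hp => (hcone p hp).2⟩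

/-- the vector with prescribed products -/
noncomputable def vec (_hF : Frame4 Q QU QW pt) (v₁ v₂ : W) (a b : F) : W :=
  ((2 * QW v₁)⁻¹ * a) • v₁ + ((2 * QW v₂)⁻¹ * b) • v₂

theorem vec_spec (hC : Centre QW c f v₁ v₂) (a b : F) : polar QW c (hF.vec v₁ v₂ a b) = 0 ∧
    polar QW (hF.vec v₁ v₂ a b) v₁ = a ∧ polar QW (hF.vec v₁ v₂ a b) v₂ = b := by
  have e1 := mul_ne_zero hF.two hC.q1
  have e2 := mul_ne_zero hF.two hC.q2
  refine ⟨?_, ?_, ?_⟩
  · rw [vec, polar_add_right, polar_smul_right, polar_smul_right, hC.c1, hC.c2, smul_zero, smul_zero, add_zero]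
  · rw [vec, polar_add_left, polar_smul_left, polar_smul_left, polar_self', polar_comm QW v₂ v₁, hC.h12, smul_zero,
      add_zero, smul_eq_mul, mul_right_comm, inv_mul_cancel₀ e1, one_mul]
  · rw [vec, polar_add_left, polar_smul_left, polar_smul_left, polar_self', hC.h12, smul_zero, zero_add,
      smul_eq_mul, mul_right_comm, inv_mul_cancel₀ e2, one_mul]

/-- with scalar components, a Siegel transformation of the second factor remains beside `U ⊗ c` -/
theorem eq_mul_radW (hC : Centre QW c f v₁ v₂) {n : oG Q} (hn : hF.InQ c n) {κ₁ κ₂ : F}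
    (h1 : ∀ x, hF.bq f n v₁ x = κ₁ • x) (h2 : ∀ x, hF.bq f n v₂ x = κ₂ • x) :
    ∃ (v : W) (hv : polar QW c v = 0) (S : U →ₗ[F] U), hF.InQ c ((hF.lp (1, sO hC.hc hv))⁻¹ * n) ∧
      ∀ z, ((hF.lp (1, sO hC.hc hv))⁻¹ * n).1 z = z + pt (S (hF.pW c z)) c := by
  obtain ⟨hcw, hw1, hw2⟩ := hF.vec_spec hC κ₁ κ₂
  refine ⟨_, hcw, hF.pW f ∘ₗ ((hF.lp (1, sO hC.hc hcw))⁻¹ * n).1.toLinearMap ∘ₗ pt.flip f,
    hF.inQ_mul hC (hF.inQ_inv (hF.inQ_sW hC.hc hcw)) hn, ?_⟩
  set m := (hF.lp (1, sO hC.hc hcw))⁻¹ * n with hm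
  have hmq : hF.InQ c m := hF.inQ_mul hC (hF.inQ_inv (hF.inQ_sW hC.hc hcw)) hn
  have hb : ∀ (v : W) (κ : F), polar QW c v = 0 → (∀ x, hF.bq f n v x = κ • x) →
      polar QW (hF.vec v₁ v₂ κ₁ κ₂) v = κ → hF.bq f m v = 0 := fun v κ hv hκ e => by
    rw [hm, hF.bq_mul hC (hF.inQ_inv (hF.inQ_sW hC.hc hcw)) hn hv, hF.bq_inv hC (hF.inQ_sW hC.hc hcw) hv,
      hF.bq_sW hC hcw hv, e]
    exact LinearMap.ext fun x => by simp [hκ]
  have b1 := hb v₁ κ₁ hC.c1 h1 hw1
  have b2 := hb v₂ κ₂ hC.c2 h2 hw2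
  have p1 : ∀ (v : W), polar QW c v = 0 → polar QW f v = 0 → hF.bq f m v = 0 → ∀ u,
      hF.pW v (m.1 (pt u f)) = 0 := fun v hcv hfv hb0 u => hF.eqU fun u' => by
    rw [hF.pW_v_apply hC hmq hcv hfv, hb0]
    simp [polar]
  intro z
  have e : m.1 (pt (hF.pW c z) f) = pt (hF.pW f (m.1 (pt (hF.pW c z) f))) c + pt (hF.pW c z) f := by
    conv_lhs => rw [hF.decomp hC (m.1 (pt (hF.pW c z) f))]
    rw [p1 _ hC.c1 hC.f1 b1, p1 _ hC.c2 hC.f2 b2, hF.pW_c_apply hmq, hF.pW_pt, hC.hcf, one_smul]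
    simp
  rw [hF.apply_eq hC hmq z, b1, b2, e]
  conv_rhs => enter [1]; rw [hF.decomp hC z]
  simp only [LinearMap.zero_apply, map_zero, smul_zero, add_zero, LinearMap.comp_apply, LinearEquiv.coe_coe,
    LinearMap.flip_apply]
  abel

/-- the part of the group in the radical consists of Siegel transformations of the second factor -/
theorem inQ_mem (hne : ¬ eo Q ≤ H) (hO : Over pt H) (hC : Centre QW c f v₁ v₂) {n : oG Q} (hn : hF.InQ c n)
    (hnH : n ∈ H) : ∃ (v : W) (hv : polar QW c v = 0), n = hF.lp (1, sO hC.hc hv) := by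
  obtain ⟨⟨κ₁, h1⟩, ⟨κ₂, h2⟩⟩ := hF.scalar_of_mem hne hO hC hn hnH
  obtain ⟨v, hv, S, hq, hS⟩ := hF.eq_mul_radW hC hn h1 h2
  have hS0 : S = 0 := by_contra fun h0 => hne (hF.eo_le_of_radW hO (hF.centre_ne hC) hC.hc (hF.radW_skew hC hS) h0
    ⟨_, mul_mem (inv_mem (hO.sW_mem4 hF hC.hc hv)) hnH, hS⟩)
  refine ⟨v, hv, (inv_mul_eq_one.1 (ext_oG fun z => ?_)).symm⟩
  rw [hS, hS0, LinearMap.zero_apply, map_zero, LinearMap.zero_apply, add_zero, oG_one_apply]

end Frame4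

end Cfsg.Agent.ClassicalMax.OTensor
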