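import Cfsg.Agent.ClassicalMax.OTensor4.Radical

/-!
`O₃ ⊗ O₄⁻`: an element supported on `U ⊗ c`, for a singular vector `c` of the second factor, gives every Siegel
transformation.
-/

set_option autoImplicit false
set_option linter.unusedSectionVars false
set_option linter.style.haveILetI false

namespace Cfsg.Agent.ClassicalMax.OTensor

open Module QuadraticMap Cfsg.Agent.Classical Cfsg.Agent.Classical.Quad Cfsg.Agent.ClassicalMax
open Cfsg.Agent.ClassicalMax.RootPlanes (Pl tS mem_tS Full full_of_tS eo_le)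

variable {F U W V : Type*} [Field F] [Finite F] [AddCommGroup U] [Module F U] [FiniteDimensional F U]
  [AddCommGroup W] [Module F W] [FiniteDimensional F W] [AddCommGroup V] [Module F V] [FiniteDimensional F V]
  {Q : QuadraticForm F V} {QU : QuadraticForm F U} {QW : QuadraticForm F W} {pt : U →ₗ[F] W →ₗ[F] V}
  {H : Subgroup (oG Q)}

/-- Siegel transformations of either factor lie in the group -/
theorem Over.sW_mem4 (hO : Over pt H) (hF : Frame4 Q QU QW pt) {p v : W} (hp : QW p = 0) (hv : polar QW p v = 0) :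
    hF.lp (1, sO hp hv) ∈ H :=
  hO.lp_memC hF.toCore (one_mem _) (sO_mem_commutator hF.ndW (Or.inl (two_ne_card hF.two)) hp hv)

theorem Over.sU_mem4 (hO : Over pt H) (hF : Frame4 Q QU QW pt) {p v : U} (hp : QU p = 0) (hv : polar QU p v = 0) :
    hF.lp (sO hp hv, 1) ∈ H :=
  hO.lp_memC hF.toCore (sO_mem_commutator hF.ndU (Or.inl (two_ne_card hF.two)) hp hv) (one_mem _)

namespace Frame4

variable (hF : Frame4 Q QU QW pt)
include hF

theorem dimU_ge : 3 ≤ finrank F U := hF.dimU.ge

/-- a singular vector with an orthogonal vector off its line is orthogonal to no further singular one -/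
theorem aniso_of_perp {p y : U} (hp0 : p ≠ 0) (hp : QU p = 0) (hpy : polar QU p y = 0) (hy : y ∉ F ∙ p) :
    QU y ≠ 0 := by
  intro hy0
  have hS : ∀ v ∈ Submodule.span F ({p, y} : Set U), QU v = 0 := fun v hv => by
    obtain ⟨a, b, rfl⟩ := Submodule.mem_span_pair.1 hv
    rw [map_add', Quad.map_smul', Quad.map_smul', hp, hy0, polar_smul_left, polar_smul_right, hpy]
    simp
  have h1 := two_mul_finrank_le hF.ndU hS
  have hli : LinearIndependent F ![p, y] := by
    rw [LinearIndependent.pair_iff' hp0]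
    exact fun a e => hy (Submodule.mem_span_singleton.2 ⟨a, e⟩)
  have h3 := finrank_span_eq_card hli
  rw [Matrix.range_cons, Matrix.range_cons, Matrix.range_empty, Set.union_empty, Set.singleton_union,
    Fintype.card_fin] at h3
  rw [h3, hF.dimU] at h1
  omega

omit hF in
theorem finrank_pair' {p y : U} (hp : p ≠ 0) (hy : y ∉ F ∙ p) :
    finrank F (Submodule.span F ({p, y} : Set U)) = 2 := by
  have hli : LinearIndependent F ![p, y] := by
    rw [LinearIndependent.pair_iff' hp]
    exact fun a e => hy (Submodule.mem_span_singleton.2 ⟨a, e⟩)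
  have h := finrank_span_eq_card hli
  rw [Matrix.range_cons, Matrix.range_cons, Matrix.range_empty, Set.union_empty, Set.singleton_union,
    Fintype.card_fin] at h
  exact h

/-- a skew parameter gives one singular plane in each of the two shapes -/
theorem pl_of_skew (hO : Over pt H) {c : W} (hc0 : c ≠ 0) (hc : QW c = 0) {S : U →ₗ[F] U}
    (hS : ∀ x y, polar QU (S x) y = -polar QU x (S y)) (h0 : S ≠ 0)
    (h : ∃ g ∈ H, ∀ z, g.1 z = z + pt (S (hF.pW c z)) c) :
    ∃ (p y : U) (f : W), p ≠ 0 ∧ QU p = 0 ∧ polar QU p y = 0 ∧ QU y ≠ 0 ∧ QW f = 0 ∧ polar QW c f = 1 ∧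
      Pl H (pt p c) (pt y c) ∧ Pl H (pt p c) (pt p f) := by
  have h2 := hF.two
  obtain ⟨p, hp, hSp⟩ := exists_moved h2 hF.ndU hF.dimU_ge hS h0
  have hp0 : p ≠ 0 := fun e' => hSp (by rw [e', map_zero]; exact Submodule.zero_mem _)
  have hskew : ∀ a b, polar QU b (S a) = -polar QU a (S b) := fun a b => by rw [polar_comm, hS]
  have hdiag : ∀ a, polar QU a (S a) = 0 := fun a =>
    (mul_eq_zero.1 (show (2 : F) * polar QU a (S a) = 0 by linear_combination hskew a a)).resolve_left h2
  set y := S p with hyd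
  have hpy : polar QU p y = 0 := hdiag p
  have hy := hF.aniso_of_perp hp0 hp hpy hSp
  obtain ⟨g₀, hg₀, hz₀⟩ := h
  -- the parameters
  let R : (U →ₗ[F] U) → Prop := fun T => ∃ g ∈ H, ∀ z, g.1 z = z + pt (T (hF.pW c z)) c
  have radd : ∀ {T T'}, R T → R T' → R (T + T') := fun {T T'} ⟨g, hg, hz⟩ ⟨g', hg', hz'⟩ =>
    ⟨g * g', mul_mem hg hg', fun z => by
      rw [oG_mul_apply, hz, hz', map_add (hF.pW c), hF.pW_pt, polar_sing hc, zero_smul, add_zero,
        LinearMap.add_apply, map_add pt, LinearMap.add_apply, add_assoc, add_comm (pt (T' _) c)]⟩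
  have rneg : ∀ {T}, R T → R (-T) := fun {T} ⟨g, hg, hz⟩ => by
    refine ⟨g⁻¹, inv_mem hg, fun z => g.1.injective ?_⟩
    rw [oG_apply_inv, hz, map_add (hF.pW c), hF.pW_pt, polar_sing hc, zero_smul, add_zero, LinearMap.neg_apply,
      map_neg pt, LinearMap.neg_apply, neg_add_cancel_right]
  have rconj : ∀ {v : U} (hv : polar QU p v = 0), R ((sO hp hv).1.toLinearMap ∘ₗ S ∘ₗ
      (sO hp (polar_perp_neg hv)).1.toLinearMap) := fun {v} hv => by
    refine ⟨hF.lp (sO hp hv, 1) * g₀ * hF.lp (sO hp (polar_perp_neg hv), 1),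
      mul_mem (mul_mem (hO.sU_mem4 hF hp hv) hg₀) (hO.sU_mem4 hF hp (polar_perp_neg hv)), fun z => ?_⟩
    have e1 : hF.pW c ((hF.lp (sO hp (polar_perp_neg hv), 1)).1 z) = (sO hp (polar_perp_neg hv)).1 (hF.pW c z) := by
      simpa using hF.pW_lp (sO hp (polar_perp_neg hv)) 1 c z
    have e2 : (hF.lp (sO hp hv, 1)).1 ((hF.lp (sO hp (polar_perp_neg hv), 1)).1 z) = z := by
      rw [← oG_mul_apply, ← map_mul, Prod.mk_mul_mk, one_mul, ← sO_inv hp hv, mul_inv_cancel, ← Prod.one_eq_mk,
        map_one, oG_one_apply]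
    rw [oG_mul_apply, oG_mul_apply, hz₀, e1, map_add, e2, hF.lp_pt]
    rfl
  have key : ∀ t : F, R ((-(t ^ 2)) • skP QU p ((2 * QU y) • y)) := by
    intro t
    have ht := polar_perp_smul hpy t
    have hc' := radd (radd (radd (rconj ht) (rconj (polar_perp_neg ht))) (rneg ⟨g₀, hg₀, hz₀⟩)) (rneg ⟨g₀, hg₀, hz₀⟩)
    convert hc' using 1
    have e1 : sO hp (polar_perp_neg (polar_perp_neg ht)) = sO hp ht := sO_congr hp _ _ (neg_neg _)
    rw [e1]
    refine LinearMap.ext fun x => ?_
    have f1 : polar QU p (S y) = -polar QU y y := hskew y p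
    have f2 : ∀ x, polar QU p (S x) = -polar QU x y := fun x => hskew x p
    simp only [LinearMap.smul_apply, skP_apply, LinearMap.neg_apply, LinearMap.add_apply, LinearMap.comp_apply,
      LinearEquiv.coe_coe, sO_apply, polar_sub_left, polar_add_left, polar_smul_left, polar_neg_right,
      polar_smul_right, QuadraticMap.map_neg, Quad.map_smul', map_add, map_smul, map_neg, map_sub, ← hyd,
      polar_comm QU _ p, f1, f2, hdiag, hpy, polar_sing hp, polar_self', smul_eq_mul]
    have f3 : polar QU y p = 0 := by rw [polar_comm]; exact hdiag p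
    have f4 : polar QU (S y) y = 0 := by rw [polar_comm]; exact hdiag y
    simp only [f3, f4, polar_comm QU y x, mul_zero, zero_mul, neg_zero, add_zero, zero_smul, sub_zero]
    module
  have h1 : Pl H (pt p c) (pt ((2 * QU y) • y) c) := by
    refine ⟨hF.pure_sing' p hc, hF.pure_sing' _ hc, by rw [hF.prod, polar_sing hc, mul_zero], fun l hu hh => ?_⟩
    obtain ⟨a, b, hab⟩ := two_squares h2 (-l)
    obtain ⟨g, hg, hz⟩ := radd (key a) (key b)
    have : sO hu hh = g := ext_oG fun z => by
      rw [hz, ← add_smul, ← show l = -(a ^ 2) + -(b ^ 2) by linear_combination -hab, sO_apply, LinearMap.smul_apply,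
        skP_apply, Quad.map_smul', hF.pure_sing' _ hc, polar_smul_right, polar_comm Q z (pt ((2 * QU y) • y) c),
        polar_comm Q z (pt p c), ← hF.polar_pW, ← hF.polar_pW, polar_comm QU _ p,
        polar_comm QU _ ((2 * QU y) • y), smul_eq_mul]
      simp only [map_sub, map_smul, LinearMap.sub_apply, LinearMap.smul_apply]
      module
    exact this ▸ hg
  have h3 := h1.smul_right (2 * QU y)⁻¹
  rw [map_smul pt, LinearMap.smul_apply, inv_smul_smul₀ (mul_ne_zero h2 hy)] at h3
  obtain ⟨f, hf, hcf⟩ := exists_hyp_pair hF.ndW hc0 hc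
  have hf0 : f ≠ 0 := fun e' => by rw [e'] at hcf; simp [polar] at hcf
  have hW : 3 ≤ finrank F W := by rw [hF.dimW]; omega
  obtain ⟨g, hg, t, ht, hge⟩ := exists_eo_point hF.ndW hW hc0 hc hf0 hf
  rw [eo_eq_commutator hF.ndW hW (Or.inl (two_ne_card h2))] at hg
  have h4 := ((h3.conj (hO.lp_memC hF.toCore (one_mem _) hg)).smul_left t⁻¹).smul_right t⁻¹
  rw [hF.lp_pt, hF.lp_pt, hge, oG_one_apply, oG_one_apply, map_smul (pt p), map_smul (pt y), inv_smul_smul₀ ht,
    inv_smul_smul₀ ht] at h4
  refine ⟨p, y, f, hp0, hp, hpy, hy, hf, hcf, h3, h3.rule h4.symm (by rw [hF.prod, hpy, zero_mul])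
    (by rw [hF.prod, polar_sing hp, zero_mul]) (by rw [hF.prod, polar_comm QU y p, hpy, zero_mul]) ?_⟩
  rw [hF.prod, hcf, mul_one, polar_self']
  exact mul_ne_zero h2 hy

/-- a non-zero element supported on `U ⊗ c` gives every Siegel transformation -/
theorem eo_le_of_radW {c : W} (hO : Over pt H) (hc0 : c ≠ 0) (hc : QW c = 0) {S : U →ₗ[F] U}
    (hS : ∀ x y, polar QU (S x) y = -polar QU x (S y)) (h0 : S ≠ 0)
    (h : ∃ g ∈ H, ∀ z, g.1 z = z + pt (S (hF.pW c z)) c) : eo Q ≤ H := by
  obtain ⟨p₀, y₀, f₀, hp₀0, hp₀, hpy₀, hy₀, hf₀, hcf₀, h1, h3⟩ := hF.pl_of_skew hO hc0 hc hS h0 h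
  have h2 := hF.two
  have hW : 3 ≤ finrank F W := by rw [hF.dimW]; omega
  -- the two shapes at every centre
  have move : ∀ (p : U) (d : W), p ≠ 0 → QU p = 0 → d ≠ 0 → QW d = 0 →
      (∃ y, polar QU p y = 0 ∧ QU y ≠ 0 ∧ Pl H (pt p d) (pt y d)) ∧
      ∃ f, QW f = 0 ∧ polar QW d f ≠ 0 ∧ Pl H (pt p d) (pt p f) := by
    intro p d hp0 hp hd0 hd
    obtain ⟨a, ha, s, hs, hae⟩ := exists_eo_point hF.ndU hF.dimU_ge hp₀0 hp₀ hp0 hp
    obtain ⟨b, hb, t, ht, hbe⟩ := exists_eo_point hF.ndW hW hc0 hc hd0 hd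
    rw [eo_eq_commutator hF.ndU hF.dimU_ge (Or.inl (two_ne_card h2))] at ha
    rw [eo_eq_commutator hF.ndW hW (Or.inl (two_ne_card h2))] at hb
    have hl := hO.lp_memC hF.toCore ha hb
    have hpa : polar QU p (a.1 y₀) = 0 := by
      have := polar_oG a p₀ y₀
      rw [hae, polar_smul_left, hpy₀, smul_eq_mul] at this
      exact (mul_eq_zero.1 this).resolve_left hs
    refine ⟨⟨t • a.1 y₀, polar_perp_smul hpa t, ?_, ?_⟩, b.1 f₀, by rw [b.2, hf₀], ?_, ?_⟩
    · rw [Quad.map_smul', a.2]
      exact mul_ne_zero (mul_ne_zero ht ht) hy₀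
    · have := (h1.conj hl).smul_left (s * t)⁻¹
      rw [hF.lp_pt, hF.lp_pt, hae, hbe] at this
      simp only [map_smul, LinearMap.smul_apply, smul_smul] at this ⊢
      convert this using 2
      rw [show (s * t)⁻¹ * (t * s) = 1 by field_simp, one_smul]
    · intro e
      have := polar_oG b c f₀
      rw [hbe, polar_smul_left, e, smul_zero, hcf₀] at this
      exact zero_ne_one this
    · have := ((h3.conj hl).smul_left (s * t)⁻¹).smul_right s⁻¹
      rw [hF.lp_pt, hF.lp_pt, hae, hbe] at this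
      simp only [map_smul, LinearMap.smul_apply, smul_smul] at this
      rwa [show (s * t)⁻¹ * (t * s) = 1 by field_simp, inv_mul_cancel₀ hs, one_smul, one_smul] at this
  -- `y ⊗ d` for `y ⊥ p`, and `p ⊗ W`
  have hcol : ∀ (p : U) (d : W), p ≠ 0 → QU p = 0 → d ≠ 0 → ∀ (hd : QW d = 0) (y : U), polar QU p y = 0 →
      pt y d ∈ tS H (hF.pure_sing' p hd) := by
    intro p d hp0 hp hd0 hd y hpy
    obtain ⟨⟨y₁, hpy₁, hy₁, hpl⟩, -⟩ := move p d hp0 hp hd0 hd
    set S := (tS H (hF.pure_sing' p hd)).comap (pt.flip d) with hSd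
    suffices y ∈ S from this
    have hpS : p ∈ S := mem_tS (Pl.refl (hF.pure_sing' p hd))
    have hyS : y₁ ∈ S := mem_tS hpl
    have hle : Submodule.span F ({p, y₁} : Set U) ≤ S := Submodule.span_le.2 (by rintro _ (rfl | rfl) <;> assumption)
    have hker : Submodule.span F ({p, y₁} : Set U) = LinearMap.ker (polarBilin QU p) := by
      refine Submodule.eq_of_le_of_finrank_le (Submodule.span_le.2 ?_) ?_
      · rintro _ (rfl | rfl)
        · exact polar_sing hp
        · exact hpy₁
      · have hni : y₁ ∉ F ∙ p := fun hm => by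
          obtain ⟨r, hr⟩ := Submodule.mem_span_singleton.1 hm
          rw [← hr, Quad.map_smul', hp, mul_zero] at hy₁
          exact hy₁ rfl
        rw [finrank_pair' hp0 hni]
        have h4 := LinearMap.finrank_range_add_finrank_ker (polarBilin QU p)
        obtain ⟨z, -, hpz⟩ := exists_hyp_pair hF.ndU hp0 hp
        have h5 : LinearMap.range (polarBilin QU p) ≠ ⊥ := fun e => by
          have : polar QU p z = 0 := (Submodule.eq_bot_iff _).1 e _ (LinearMap.mem_range_self (polarBilin QU p) z)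
          rw [hpz] at this
          exact one_ne_zero this
        have h6 := Nat.pos_of_ne_zero fun h0 => h5 (Submodule.finrank_eq_zero.1 h0)
        rw [hF.dimU] at h4
        omega
    exact hle (hker.ge hpy)
  have hrow : ∀ (p : U) (d : W), p ≠ 0 → QU p = 0 → d ≠ 0 → ∀ (hd : QW d = 0) (x : W),
      pt p x ∈ tS H (hF.pure_sing' p hd) := by
    intro p d hp0 hp hd0 hd x
    obtain ⟨-, f, hf, hdf, hpl⟩ := move p d hp0 hp hd0 hd
    set S := (tS H (hF.pure_sing' p hd)).comap (pt p) with hSd
    suffices x ∈ S from this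
    have hfS : f ∈ S := mem_tS hpl
    have hdS : d ∈ S := mem_tS (Pl.refl (hF.pure_sing' p hd))
    set f' := (polar QW d f)⁻¹ • f with hf'd
    have hf'S : f' ∈ S := S.smul_mem _ hfS
    have hf' : QW f' = 0 := by rw [hf'd, Quad.map_smul', hf, mul_zero]
    have hdf' : polar QW d f' = 1 := by rw [hf'd, polar_smul_right, smul_eq_mul, inv_mul_cancel₀ hdf]
    set v := x + (-polar QW f' x) • d + (-polar QW d x) • f' with hvd
    have hv1 : polar QW d v = 0 := by
      rw [hvd, polar_add_right, polar_add_right, polar_smul_right, polar_smul_right, polar_sing hd, hdf', smul_eq_mul,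
        smul_eq_mul]; ring
    have hv2 : polar QW f' v = 0 := by
      rw [hvd, polar_add_right, polar_add_right, polar_smul_right, polar_smul_right, polar_sing hf',
        polar_comm QW f' d, hdf', smul_eq_mul, smul_eq_mul]; ring
    have hk : (hF.lp (1, sO hd hv1)).1 (pt p d) = pt p d := by
      rw [hF.lp_pt, oG_one_apply, sO_apply, hv1, polar_sing hd]; simp
    have h4 := tS_conj (hf := hF.pure_sing' p hd) (hO.sW_mem4 hF hd hv1) hk (hf'S : pt p f' ∈ _)
    rw [hF.lp_pt, oG_one_apply, sO_apply, hv2, polar_comm QW f' d, hdf'] at h4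
    have h5 := S.sub_mem (S.sub_mem hf'S (S.smul_mem (QW v) hdS)) h4
    have h6 := S.add_mem (S.add_mem h5 (S.smul_mem (polar QW f' x) hdS)) (S.smul_mem (polar QW d x) hf'S)
    convert h6 using 1
    rw [hvd]
    module
  -- every centre `p ⊗ c` is full
  have hfull : ∀ (p : U) (d : W), p ≠ 0 → QU p = 0 → d ≠ 0 → QW d = 0 → Full H (pt p d) := by
    intro p d hp0 hp hd0 hd
    set T := tS H (hF.pure_sing' p hd) with hT
    obtain ⟨g, hg, hpg⟩ := exists_hyp_pair hF.ndU hp0 hp
    have hg0 : g ≠ 0 := fun e => by rw [e] at hpg; simp [polar] at hpg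
    obtain ⟨f, hf, hdf⟩ := exists_hyp_pair hF.ndW hd0 hd
    have hf0 : f ≠ 0 := fun e => by rw [e] at hdf; simp [polar] at hdf
    obtain ⟨y, hpy, hgy, hy⟩ := exists_aniso_perp hF.ndU hF.dimU_ge hp hg hpg
    have hroot : ∀ (u w : V) (hu : Q u = 0) (huw : polar Q u w = 0), w ∈ tS H hu → polar Q u (pt p d) = 0 →
        polar Q w (pt p d) = 0 → ∀ z ∈ T, (sO hu huw).1 z ∈ T := fun u w hu huw hw h1 h2 z hz => by
      have hm : sO hu huw ∈ H := by
        have := hw.2 1 (by rwa [one_smul])
        rwa [sO_congr hu _ huw (one_smul F w)] at this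
      refine tS_conj hm ?_ hz
      rw [sO_apply, polar_comm Q (pt p d) u, h1, polar_comm Q (pt p d) w, h2]
      simp
    -- `g ⊗ d^⊥`
    have hgd : ∀ x, polar QW d x = 0 → pt g x ∈ T := by
      intro x hx
      have hu := hF.pure_sing' g hd
      have huw : polar Q (pt g d) (pt g x) = 0 := by rw [hF.prod, polar_sing hg, zero_mul]
      have h1 : polar Q (pt g d) (pt p d) = 0 := by rw [hF.prod, polar_sing hd, mul_zero]
      have h2' : polar Q (pt g x) (pt p d) = 0 := by rw [hF.prod, polar_comm QW x d, hx, mul_zero]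
      have mv : ∀ z, (sO hu huw).1 (pt p z) = pt p z + polar QW z x • pt g d - polar QW z d • pt g x := fun z => by
        rw [sO_apply, hF.prod, hF.prod, hpg, one_mul, one_mul, hF.pure_sing hg x]
        module
      have hd' : polar QW d d = 0 := polar_sing hd
      by_cases hxd : x ∈ F ∙ d
      · -- the centre itself
        obtain ⟨r, rfl⟩ := Submodule.mem_span_singleton.1 hxd
        obtain ⟨f', v₂, hC⟩ : ∃ f' v₂, ∃ v, Centre QW d f' v v₂ := by
          obtain ⟨v, hdv, -, hv⟩ := exists_aniso_perp hF.ndW hW hd hf hdf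
          obtain ⟨f', v₂, hC⟩ := hF.exists_centre hd0 hd hdv hv
          exact ⟨f', v₂, v, hC⟩
        obtain ⟨v, hC⟩ := hC
        have huw' : polar Q (pt g d) (pt g v) = 0 := by rw [hF.prod, polar_sing hg, zero_mul]
        have h3 := hroot _ _ hu huw' (hrow g d hg0 hg hd0 hd v) h1
          (by rw [hF.prod, polar_comm QW v d, hC.c1, mul_zero]) _ (hrow p d hp0 hp hd0 hd v)
        rw [sO_apply, hF.prod, hF.prod, hpg, one_mul, one_mul, hF.pure_sing hg v, polar_comm QW v d, hC.c1,
          polar_self'] at h3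
        have h4 := T.sub_mem h3 (hrow p d hp0 hp hd0 hd v)
        simp only [zero_smul, mul_zero, neg_zero, add_zero, add_sub_cancel_left] at h4
        rw [map_smul]
        exact T.smul_mem _ ((Submodule.smul_mem_iff _ (mul_ne_zero h2 hC.q1)).1 h4)
      · have h3 := hroot _ _ hu huw (hrow g d hg0 hg hd0 hd x) h1 h2' _ (hrow p d hp0 hp hd0 hd f)
        rw [mv, polar_comm QW f d, hdf, one_smul] at h3
        have hxq : QW x ≠ 0 := fun h0 => hxd (hF.ellW d x hd h0 hx hd0)
        have h4 := hroot _ _ hu huw (hrow g d hg0 hg hd0 hd x) h1 h2' _ (hrow p d hp0 hp hd0 hd x)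
        rw [mv, polar_self', polar_comm QW x d, hx, zero_smul, sub_zero] at h4
        have h5 := T.sub_mem h4 (hrow p d hp0 hp hd0 hd x)
        rw [add_sub_cancel_left] at h5
        have hgdT := (Submodule.smul_mem_iff _ (mul_ne_zero h2 hxq)).1 h5
        have h6 := T.sub_mem (T.add_mem (hrow p d hp0 hp hd0 hd f) (T.smul_mem (polar QW f x) hgdT)) h3
        convert h6 using 1
        module
    -- `y' ⊗ W` for `y' ⊥ p`
    have hmix : ∀ (y' : U) (x : W), polar QU p y' = 0 → pt y' x ∈ T := by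
      intro y' x hy'
      set x₀ := x - polar QW d x • f with hx₀
      have hdx₀ : polar QW d x₀ = 0 := by
        rw [hx₀, polar_sub_right, polar_smul_right, hdf, smul_eq_mul, mul_one, sub_self]
      have hk : (hF.lp (sO hp hy', 1)).1 (pt p d) = pt p d := by
        rw [hF.lp_pt, oG_one_apply, sO_apply, hy', polar_sing hp]; simp
      have h3 := tS_conj (hf := hF.pure_sing' p hd) (hO.sU_mem4 hF hp hy') hk (hgd x₀ hdx₀)
      rw [hF.lp_pt, oG_one_apply, sO_apply, polar_comm QU g p, hpg] at h3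
      have hpx := hrow p d hp0 hp hd0 hd x₀
      have hyx : pt y' x₀ ∈ T := by
        have h4 := T.sub_mem (T.add_mem (hgd x₀ hdx₀) (T.smul_mem (polar QU g y' - QU y') hpx)) h3
        convert h4 using 1
        simp only [map_add, map_smul, LinearMap.add_apply, LinearMap.smul_apply]
        module
      -- `y' ⊗ f`
      have hu := hF.pure_sing' p hf
      have huw : polar Q (pt p f) (pt y' f) = 0 := by rw [hF.prod, hy', zero_mul]
      have h5 := hroot _ _ hu huw (hcol p f hp0 hp hf0 hf y' hy') (by rw [hF.prod, polar_sing hp, zero_mul])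
        (by rw [hF.prod, polar_comm QU y' p, hy', zero_mul]) _ (hgd d (polar_sing hd))
      rw [sO_apply, hF.prod, hF.prod, polar_comm QU g p, hpg, hdf, hF.pure_sing' y' hf] at h5
      have hdm := hgd d (polar_sing hd)
      have h6 := T.sub_mem (T.add_mem hdm (T.smul_mem (polar QU g y') (hrow p d hp0 hp hd0 hd f))) h5
      have hyf : pt y' f ∈ T := by
        convert h6 using 1
        module
      have := T.add_mem hyx (T.smul_mem (polar QW d x) hyf)
      rwa [hx₀, map_sub, map_smul, sub_add_cancel] at this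
    refine full_of_tS (hF.pure_sing' p hd) fun z hz => ?_
    have key : T.mkQ ∘ₗ (LinearMap.id - (polarBilin Q (pt p d)).smulRight (pt g f)) = 0 := hF.ext_pure fun u x => by
      show T.mkQ (pt u x - polar Q (pt p d) (pt u x) • pt g f) = 0
      rw [Submodule.mkQ_apply, Submodule.Quotient.mk_eq_zero, hF.prod]
      have h5 := T.add_mem (hmix (u - polar QU p u • g) x
          (by rw [polar_sub_right, polar_smul_right, hpg, smul_eq_mul, mul_one, sub_self]))
        (T.smul_mem (polar QU p u) (hgd (x - polar QW d x • f)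
          (by rw [polar_sub_right, polar_smul_right, hdf, smul_eq_mul, mul_one, sub_self])))
      convert h5 using 1
      simp only [map_sub, map_smul, LinearMap.sub_apply, LinearMap.smul_apply]
      module
    have h6 := LinearMap.congr_fun key z
    simp only [LinearMap.comp_apply, LinearMap.sub_apply, LinearMap.id_apply, LinearMap.smulRight_apply,
      LinearMap.zero_apply, Submodule.mkQ_apply, Submodule.Quotient.mk_eq_zero] at h6
    rwa [show polarBilin Q (pt p d) z = 0 from hz, zero_smul, sub_zero] at h6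
  obtain ⟨g, hg, hpg⟩ := exists_hyp_pair hF.ndU hp₀0 hp₀
  refine eo_le hF.nd ?_ (hfull p₀ c hp₀0 hp₀ hc0 hc) (hfull g f₀ ?_ hg ?_ hf₀)
    (by rw [hF.prod, hpg, hcf₀, one_mul]; exact one_ne_zero)
  · have hinj : Function.Injective (pt p₀) := fun x y hxy => hF.eqW fun w => by
      have := congrArg (fun z => polar Q (pt g w) z) hxy
      simp only [hF.prod, polar_comm QU g p₀, hpg, one_mul] at this
      rw [polar_comm QW x w, this, polar_comm]
    have := LinearMap.finrank_le_finrank_of_injective hinj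
    rw [hF.dimW] at this
    omega
  · exact fun e' => by rw [e'] at hpg; simp [polar] at hpg
  · exact fun e' => by rw [e'] at hcf₀; simp [polar] at hcf₀

end Frame4

end Cfsg.Agent.ClassicalMax.OTensor
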