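import Cfsg.Agent.ClassicalMax.OTensor4.Refl
import Cfsg.Agent.Coprime.Generation

/-!
`O₃ ⊗ O₄⁻`: the centraliser of `-r ⊗ 1` in the group preserves the decomposition.
-/

set_option autoImplicit false
set_option linter.unusedSectionVars false
set_option linter.style.haveILetI false

namespace Cfsg.Agent.ClassicalMax.OTensor

open Module QuadraticMap Cfsg.Agent.Classical Cfsg.Agent.Classical.Quad Cfsg.Agent.ClassicalMax

/-- a group normalised by an element of order `p` has, if `p` divides its order, a fixed element of `p`-power order -/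
theorem exists_fixed_of_dvd {G : Type*} [Group G] [Finite G] {K : Subgroup G} {x : G}
    (hx : x ∈ Subgroup.normalizer (K : Set G)) {p : ℕ} [Fact p.Prime] (hxp : x ^ p = 1) (hd : p ∣ Nat.card K) :
    ∃ k ∈ K, k ≠ 1 ∧ (∃ m : ℕ, k ^ p ^ m = 1) ∧ Commute x k := by
  let x' : Subgroup.normalizer (K : Set G) := ⟨x, hx⟩
  have hX : IsPGroup p (Subgroup.zpowers x') := by
    intro g
    refine ⟨1, ?_⟩
    obtain ⟨g, i, rfl⟩ := g
    ext
    show (x ^ i) ^ (p ^ 1) = 1
    rw [pow_one, ← zpow_natCast, ← zpow_mul, mul_comm, zpow_mul, zpow_natCast, hxp, one_zpow]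
  obtain ⟨P, hP⟩ := hX.nonempty_fixed_point_of_prime_not_dvd_card (Sylow p K) (not_dvd_card_sylow p K)
  have hPd : p ∣ Nat.card (P : Subgroup K) := P.dvd_card_of_dvd_card hd
  have hinv : ∀ (g : Subgroup.zpowers x'), ∀ k ∈ (P : Subgroup K), g • k ∈ (P : Subgroup K) := fun g k hk =>
    (congrArg (fun R : Sylow p K => (R : Subgroup K)) (hP g)).le (Subgroup.smul_mem_pointwise_smul k g _ hk)
  let act : MulAction (Subgroup.zpowers x') (P : Subgroup K) :=
    { smul := fun g k => ⟨g • k.1, hinv g k.1 k.2⟩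
      one_smul := fun k => Subtype.ext (one_smul _ _)
      mul_smul := fun g h k => Subtype.ext (mul_smul g h k.1) }
  obtain ⟨k, hk, hk1⟩ := hX.exists_fixed_point_of_prime_dvd_card_of_fixed_point (P : Subgroup K) hPd
    (a := 1) (fun g => Subtype.ext (smul_one g))
  obtain ⟨m, hm⟩ := P.isPGroup' k
  refine ⟨k.1.1, k.1.2, fun e => hk1 (Subtype.ext (Subtype.ext e.symm)), ⟨m, ?_⟩, ?_⟩
  · exact congrArg (fun y : (P : Subgroup K) => y.1.1) hm
  · have h := congrArg (fun y : (P : Subgroup K) => y.1.1) (hk ⟨x', Subgroup.mem_zpowers x'⟩)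
    exact mul_inv_eq_iff_eq_mul.1 h

variable {F U W V : Type*} [Field F] [Finite F] [AddCommGroup U] [Module F U] [FiniteDimensional F U]
  [AddCommGroup W] [Module F W] [FiniteDimensional F W] [AddCommGroup V] [Module F V] [FiniteDimensional F V]
  {Q : QuadraticForm F V} {QU : QuadraticForm F U} {QW : QuadraticForm F W} {pt : U →ₗ[F] W →ₗ[F] V}
  {H : Subgroup (oG Q)}

/-- the elements of the group fixing `u ⊗ W` pointwise -/
def fixU (pt : U →ₗ[F] W →ₗ[F] V) (H : Subgroup (oG Q)) (u : U) : Subgroup (oG Q) where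
  carrier := {g | g ∈ H ∧ ∀ w, g.1 (pt u w) = pt u w}
  one_mem' := ⟨one_mem _, fun _ => oG_one_apply _⟩
  mul_mem' := fun {a b} ha hb => ⟨mul_mem ha.1 hb.1, fun w => by rw [oG_mul_apply, hb.2, ha.2]⟩
  inv_mem' := fun {a} ha => ⟨inv_mem ha.1, fun w => by
    conv_lhs => rw [← ha.2 w]
    rw [oG_inv_apply]⟩

theorem sO_pow {X : Type*} [AddCommGroup X] [Module F X] {R : QuadraticForm F X} {p w : X} (hp : R p = 0)
    (hw : polar R p w = 0) : ∀ n : ℕ, (sO hp hw) ^ n = sO hp (polar_perp_smul hw (n : F))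
  | 0 => by rw [pow_zero, sO_congr hp _ (by simp [polar] : polar R p (0 : X) = 0) (by simp), sO_zero]
  | n + 1 => by
    rw [pow_succ, sO_pow hp hw n, sO_mul]
    exact sO_congr hp _ _ (by push_cast; rw [add_smul, one_smul])

namespace Frame4

variable (hF : Frame4 Q QU QW pt)
include hF

theorem sW_pow {c v : W} (hc : QW c = 0) (hv : polar QW c v = 0) {p : ℕ} [CharP F p] :
    (hF.lp (1, sO hc hv)) ^ p = 1 := by
  rw [← map_pow, Prod.pow_mk, one_pow, sO_pow, sO_congr hc _ (by simp [polar] : polar QW c (0 : W) = 0)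
    (by simp), sO_zero, ← Prod.one_eq_mk, map_one]

/-- the fixed vectors of `-r ⊗ 1` -/
theorem rho_fixed {u : U} (hu : QU u ≠ 0) {z : V} (h : (hF.lp (rho hu, 1)).1 z = z) : ∃ w, z = pt u w := by
  have key : (hF.lp (rho hu, 1)).1.toLinearMap + LinearMap.id = (QU u)⁻¹ • (pt u ∘ₗ hF.pU u) :=
    hF.ext_pure fun x w => by
      simp only [LinearMap.add_apply, LinearEquiv.coe_coe, hF.lp_pt, oG_one_apply, rho_apply, map_sub, map_smul,
        LinearMap.sub_apply, LinearMap.smul_apply, LinearMap.comp_apply, LinearMap.id_apply, hF.pU_pt, smul_smul,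
        sub_add_cancel, polar_comm QU u x]
      congr 1
      ring
  have h1 := LinearMap.congr_fun key z
  simp only [LinearMap.add_apply, LinearEquiv.coe_coe, h, LinearMap.id_apply, LinearMap.smul_apply,
    LinearMap.comp_apply] at h1
  refine ⟨(2⁻¹ * (QU u)⁻¹) • hF.pU u z, smul_right_injective V hF.two ?_⟩
  show (2 : F) • z = (2 : F) • _
  rw [map_smul, smul_smul, ← mul_assoc, mul_inv_cancel₀ hF.two, one_mul, two_smul, h1]

theorem pure_injW {u : U} (hu : QU u ≠ 0) {w w' : W} (h : pt u w = pt u w') : w = w' := by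
  have := congrArg (hF.pU u) h
  rw [hF.pU_pt, hF.pU_pt] at this
  refine smul_right_injective W ?_ this
  rw [polar_self']
  exact mul_ne_zero hF.two hu

theorem lp_one_inj {a a' : oG QU} (h : hF.lp (a, 1) = hF.lp (a', 1)) : a = a' := by
  obtain ⟨e, he⟩ := hF.exists_orth4
  refine ext_oG fun x => ?_
  have h1 := congrArg (fun g : oG Q => hF.pW (e 0) (g.1 (pt x (e 0)))) h
  simp only [hF.lp_pt, oG_one_apply, hF.pW_pt] at h1
  refine smul_right_injective U ?_ h1
  rw [polar_self']
  exact mul_ne_zero hF.two (he.aniso 0)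

/-- an element fixing `u ⊗ W` that preserves the decomposition comes from the first factor -/
theorem fix_inN {u : U} (hu : QU u ≠ 0) {g : oG Q} (hg : InN pt g.1) (hfix : ∀ w, g.1 (pt u w) = pt u w) :
    ∃ a : oG QU, a.1 u = u ∧ g = hF.lp (a, 1) := by
  have h2 := hF.two
  obtain ⟨a, b, hab⟩ := hg
  obtain ⟨e, he⟩ := hF.exists_orth4
  have h1 : ∀ w, polar QU u (a u) • b w = (2 * QU u) • w := fun w => by
    have h := congrArg (hF.pU u) ((hab u w).symm.trans (hfix w))
    rwa [hF.pU_pt, hF.pU_pt, polar_self'] at h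
  set l := polar QU u (a u)
  have hl : l ≠ 0 := fun e0 => by
    have h := h1 (e 0)
    rw [e0, zero_smul, eq_comm, smul_eq_zero] at h
    exact he.aniso 0 (by rw [h.resolve_left (mul_ne_zero h2 hu), QuadraticMap.map_zero])
  set a' := (l⁻¹ * (2 * QU u)) • a with ha'
  have hg' : ∀ x w, g.1 (pt x w) = pt (a' x) w := fun x w => by
    have hb : b w = (l⁻¹ * (2 * QU u)) • w := by
      rw [mul_smul, ← h1 w, inv_smul_smul₀ hl]
    rw [hab, hb, map_smul, ha', LinearMap.smul_apply, map_smul pt, LinearMap.smul_apply]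
  have hQ : ∀ x, QU (a' x) = QU x := fun x => by
    have h := g.2 (pt x (e 0))
    rw [hg', hF.Q_pure, hF.Q_pure] at h
    exact mul_left_cancel₀ h2 (mul_right_cancel₀ (he.aniso 0) h)
  have hinj : Function.Injective a' := (injective_iff_map_eq_zero a').2 fun x hx => hF.eqU fun y => by
    have h : polar QU (a' x) (a' y) = polar QU x y := by
      simp only [polar, ← map_add, hQ]
    rw [← h, hx, polar_zero_left, polar_zero_left]
  refine ⟨⟨LinearEquiv.ofInjectiveEndo a' hinj, hQ⟩, ?_, ext_oG fun z => ?_⟩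
  · show a' u = u
    have h := congrArg (hF.pW (e 0)) ((hg' u (e 0)).symm.trans (hfix _))
    rw [hF.pW_pt, hF.pW_pt] at h
    exact smul_right_injective U (by rw [polar_self']; exact mul_ne_zero h2 (he.aniso 0)) h
  · refine LinearMap.congr_fun (f := g.1.toLinearMap) (g := (hF.lp (_, 1)).1.toLinearMap)
      (hF.ext_pure fun x w => ?_) z
    rw [LinearEquiv.coe_coe, LinearEquiv.coe_coe, hF.lp_pt, oG_one_apply, hg']
    rfl

/-- the stabiliser of an anisotropic vector of the first factor has order prime to `p` -/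
theorem unip_fix {p : ℕ} [Fact p.Prime] [CharP F p] {u : U} (hu : QU u ≠ 0) {a : oG QU} (hau : a.1 u = u) {m : ℕ}
    (ha : a ^ p ^ m = 1) : a = 1 := by
  have h2 := hF.two
  have hp2 : p ≠ 2 := fun e => h2 (by subst e; exact_mod_cast CharP.cast_eq_zero F 2)
  have : Finite U := Module.finite_of_finite F
  set P : Submodule F U := LinearMap.ker (polarBilin QU u)
  have hP : p ∣ Nat.card P := by
    have hd : 1 ≤ finrank F P := by
      have h4 := LinearMap.finrank_range_add_finrank_ker (polarBilin QU u)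
      have h5 := Submodule.finrank_le (LinearMap.range (polarBilin QU u))
      rw [finrank_self] at h5
      rw [hF.dimU] at h4
      show 1 ≤ finrank F (LinearMap.ker (polarBilin QU u))
      omega
    have := Fintype.ofFinite F
    rw [Module.natCard_eq_pow_finrank (K := F)]
    refine dvd_trans ?_ (dvd_pow_self _ (by omega : finrank F P ≠ 0))
    obtain ⟨n, -, hn⟩ := FiniteField.card F p
    rw [Nat.card_eq_fintype_card, hn]
    exact dvd_pow_self _ n.ne_zero
  have hfixu : ∀ g ∈ Subgroup.zpowers a, g.1 u = u := fun g hg => by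
    have : Subgroup.zpowers a ≤ MulAction.stabilizer (oG QU) u := Subgroup.zpowers_le.2 hau
    exact this hg
  have hinv : ∀ (g : Subgroup.zpowers a), ∀ z ∈ P, g.1.1 z ∈ P := fun g z hz => by
    show polar QU u (g.1.1 z) = 0
    rw [← hfixu g.1 g.2, polar_oG]
    exact hz
  let act : MulAction (Subgroup.zpowers a) P :=
    { smul := fun g z => ⟨g.1.1 z.1, hinv g z.1 z.2⟩
      one_smul := fun z => rfl
      mul_smul := fun g h z => rfl }
  have hA : IsPGroup p (Subgroup.zpowers a) := by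
    intro g
    refine ⟨m, ?_⟩
    obtain ⟨g, i, rfl⟩ := g
    ext1
    show (a ^ i) ^ (p ^ m) = 1
    rw [← zpow_natCast, ← zpow_mul, mul_comm, zpow_mul, zpow_natCast, ha, one_zpow]
  obtain ⟨⟨y, hy⟩, hyf, hy0⟩ := hA.exists_fixed_point_of_prime_dvd_card_of_fixed_point P hP (a := 0)
    (fun g => Subtype.ext (map_zero g.1.1))
  have hay : a.1 y = y := congrArg Subtype.val (hyf ⟨a, Subgroup.mem_zpowers a⟩)
  have hy0' : y ≠ 0 := fun e => hy0 (Subtype.ext e.symm)
  have huy : polar QU u y = 0 := hy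
  by_cases hyq : QU y = 0
  · obtain ⟨g₀, hg₀, hyg₀⟩ := exists_hyp_pair hF.ndU hy0' hyq
    -- the partner orthogonal to `u`
    set g := g₀ + (-(polar QU u g₀ / (2 * QU u))) • u +
      (-(polar QU u g₀ * polar QU u g₀ / (4 * QU u)) + polar QU u g₀ * (polar QU u g₀ / (2 * QU u))) • y with hgd
    have h1 : polar QU y g = 1 := by
      rw [hgd, polar_add_right, polar_add_right, polar_smul_right, polar_smul_right, polar_comm QU y u, huy,
        polar_sing hyq, hyg₀]
      simp
    have h3 : polar QU u g = 0 := by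
      rw [hgd, polar_add_right, polar_add_right, polar_smul_right, polar_smul_right, huy, polar_self', smul_eq_mul,
        smul_eq_mul]
      field_simp
      ring
    have h4 : QU g = 0 := by
      rw [hgd, map_add_smul, map_add_smul, polar_add_left, polar_smul_left, polar_comm QU g₀ u, huy,
        polar_comm QU g₀ y, hyg₀, hyq, hg₀, smul_eq_mul]
      have : (4 : F) ≠ 0 := by rw [show (4 : F) = 2 * 2 by norm_num]; exact mul_ne_zero h2 h2
      field_simp
      ring
    have k1 : polar QU y (a.1 g) = 1 := by rw [← hay, polar_oG, h1]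
    have k3 : polar QU u (a.1 g) = 0 := by rw [← hau, polar_oG, h3]
    have k4 : QU (a.1 g) = 0 := by rw [a.2, h4]
    have hv : QU (y + (-1 : F) • g) ≠ 0 := by
      rw [map_add_smul, hyq, h4, h1]
      simp
    have hO : ∀ z, ∃ r s t : F, z = r • u + s • y + t • g := fun z => by
      have hv' : QU (y + g) ≠ 0 := by rw [map_add', hyq, h4, h1]; simp
      have hO := hF.mk_orth3 hu hv' hv
        (by rw [polar_add_right, huy, h3, add_zero])
        (by rw [polar_add_right, polar_smul_right, huy, h3, smul_zero, add_zero])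
        (by simp [polar_add_left, polar_add_right, polar_smul_right, polar_self', hyq, h4, h1, polar_comm QU g y])
      refine ⟨(2 * QU u)⁻¹ * polar QU z u, (2 * QU (y + g))⁻¹ * polar QU z (y + g) + (2 * QU (y + (-1 : F) • g))⁻¹ * polar QU z (y + (-1 : F) • g),
        (2 * QU (y + g))⁻¹ * polar QU z (y + g) - (2 * QU (y + (-1 : F) • g))⁻¹ * polar QU z (y + (-1 : F) • g),
        (hO.expand z).trans ?_⟩
      clear_value g
      module
    obtain ⟨r, s, t, e⟩ := hO (a.1 g)
    have er := congrArg (polar QU u) e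
    have et := congrArg (polar QU y) e
    rw [k3, polar_add_right, polar_add_right, polar_smul_right, polar_smul_right, polar_smul_right, huy, h3,
      polar_self', smul_eq_mul, smul_eq_mul, smul_eq_mul] at er
    rw [k1, polar_add_right, polar_add_right, polar_smul_right, polar_smul_right, polar_smul_right, polar_comm QU y u,
      huy, h1, polar_sing hyq, smul_eq_mul, smul_eq_mul, smul_eq_mul] at et
    have hr : r = 0 := by
      simpa [hu, h2] using er.symm
    have ht : t = 1 := by simpa using et.symm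
    have hag : a.1 g = g := by
      rw [e, hr, ht, zero_smul, zero_add, one_smul] at k4 ⊢
      rw [map_add', Quad.map_smul', hyq, h4, polar_smul_left, h1, smul_eq_mul] at k4
      simp at k4
      rw [k4, zero_smul, zero_add]
    refine ext_oG fun z => ?_
    obtain ⟨r, s, t, e⟩ := hO z
    rw [oG_one_apply, e, map_add, map_add, map_smul, map_smul, map_smul, hau, hay, hag]
  · obtain ⟨x, hx, hxq⟩ := hF.exists_orth_one (a := ![u, y])
      (fun i j h => by fin_cases i <;> fin_cases j <;> simp_all [polar_comm QU y u])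
      (fun i => by fin_cases i <;> simpa) (by omega)
    have hO := hF.mk_orth3 hu hyq hxq huy (hx 0) (hx 1)
    obtain ⟨e1, e2⟩ : polar QU (a.1 x) u = 0 ∧ polar QU (a.1 x) y = 0 := by
      constructor
      · conv_lhs => arg 3; rw [← hau]
        rw [polar_oG, polar_comm]; exact hx 0
      · conv_lhs => arg 3; rw [← hay]
        rw [polar_oG, polar_comm]; exact hx 1
    have hax := hO.expand (a.1 x)
    rw [e1, e2, mul_zero, mul_zero, zero_smul, zero_smul, zero_add, zero_add] at hax
    set t := (2 * QU x)⁻¹ * polar QU (a.1 x) x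
    have hsq : t * t = 1 := by
      have h := a.2 x
      rw [hax, Quad.map_smul'] at h
      exact mul_right_cancel₀ hxq (by linear_combination h)
    have hax' : ∀ n : ℕ, (a ^ n).1 x = t ^ n • x := fun n => by
      induction n with
      | zero => rw [pow_zero, pow_zero, one_smul, oG_one_apply]
      | succ n ih => rw [pow_succ, oG_mul_apply, hax, map_smul, ih, smul_smul, pow_succ']
    have hx0 : x ≠ 0 := fun e => hxq (by rw [e, QuadraticMap.map_zero])
    have hodd : Odd (p ^ m) := ((Fact.out : p.Prime).odd_of_ne_two hp2).pow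
    have ht1 : t = 1 := by
      have h := hax' (p ^ m)
      rw [ha, oG_one_apply] at h
      obtain ⟨k, hk⟩ := hodd
      rw [hk, pow_succ, pow_mul, pow_two, hsq, one_pow, one_mul] at h
      exact (smul_left_injective F hx0 ((one_smul F x).trans h)).symm
    refine ext_oG fun z => ?_
    rw [oG_one_apply, hO.expand z]
    simp only [map_add, map_smul, hau, hay, hax, ht1, one_smul]

/-- the centraliser of `-r ⊗ 1` preserves the decomposition -/
theorem inN_of_centralizes (hne : ¬ eo Q ≤ H) (hO : Over pt H) {u : U} (hu : QU u ≠ 0) {h : oG Q} (hH : h ∈ H)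
    (hcm : Commute h (hF.lp (rho hu, 1))) : InN pt h.1 := by
  have h2 := hF.two
  have : Finite V := Module.finite_of_finite F
  have : Finite (oG Q) := Finite.of_injective (fun g : oG Q => (g.1 : V → V)) fun g g' e => ext_oG (congrFun e)
  obtain ⟨p, hchar⟩ := CharP.exists F
  have hpF : Fact p.Prime := ⟨CharP.char_is_prime F p⟩
  obtain ⟨c, hc0, hc⟩ := exists_singular QW (by rw [hF.dimW]; omega)
  obtain ⟨f, v₁, v₂, hC⟩ := hF.exists_centre' hc0 hc
  set a := hF.lp (1, sO hC.hc hC.c1) with had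
  set b := hF.lp (1, sO hC.hc hC.c2) with hbd
  -- the kernel of the action on `u ⊗ W`
  set K := fixU pt H u with hK
  have hnorm : ∀ (v : W) (hv : polar QW c v = 0), hF.lp (1, sO hC.hc hv) ∈ Subgroup.normalizer (K : Set (oG Q)) := by
    intro v hv
    have key : ∀ (v : W) (hv : polar QW c v = 0), ∀ g ∈ K,
        hF.lp (1, sO hC.hc hv) * g * (hF.lp (1, sO hC.hc hv))⁻¹ ∈ K := fun v hv g hg => by
      refine ⟨mul_mem (mul_mem (hO.sW_mem4 hF hC.hc hv) hg.1) (inv_mem (hO.sW_mem4 hF hC.hc hv)), fun w => ?_⟩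
      rw [← map_inv, Prod.inv_mk, inv_one, oG_mul_apply, oG_mul_apply, hF.lp_pt, oG_one_apply, hg.2, hF.lp_pt,
        oG_one_apply, oG_apply_inv]
    rw [Subgroup.mem_normalizer_iff]
    refine fun g => ⟨key v hv g, fun hg => ?_⟩
    have h' := key _ (polar_perp_neg hv) _ hg
    rw [← sO_inv hC.hc hv, show ((1, (sO hC.hc hv)⁻¹) : oG QU × oG QW) = (1, sO hC.hc hv)⁻¹ by simp, map_inv] at h'
    simpa [mul_assoc] using h'
  have hfixed : ∀ g ∈ K, ∀ (v : W) (hv : polar QW c v = 0), QW v ≠ 0 → Commute g (hF.lp (1, sO hC.hc hv)) →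
      ∃ a' : oG QU, a'.1 u = u ∧ g = hF.lp (a', 1) := fun g hg v hv hq hg' =>
    hF.fix_inN hu (hF.inN_of_commute hne hO hg.1 hc0 hC.hc hv hC.hc hv hq hg'.eq (Submodule.mem_span_singleton_self c))
      hg.2
  have hcop : ¬ p ∣ Nat.card K := fun hd => by
    obtain ⟨k, hk, hk1, ⟨m, hm⟩, hck⟩ := exists_fixed_of_dvd (hnorm _ hC.c1) (hF.sW_pow hC.hc hC.c1 (p := p)) hd
    obtain ⟨a', ha', rfl⟩ := hfixed k hk _ hC.c1 hC.q1 hck.symm
    have : a' ^ p ^ m = 1 := hF.lp_one_inj (by
      rw [show ((a' ^ p ^ m, 1) : oG QU × oG QW) = (a', 1) ^ p ^ m by simp, map_pow, hm, ← map_one hF.lp,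
        Prod.one_eq_mk])
    exact hk1 (by rw [hF.unip_fix hu ha' this, ← Prod.one_eq_mk, map_one])
  have hab : Commute a b := by
    show a * b = b * a
    rw [had, hbd, ← map_mul, ← map_mul, Prod.mk_mul_mk, Prod.mk_mul_mk, sO_mul, sO_mul,
      sO_congr hC.hc _ (polar_perp_add hC.c2 hC.c1) (add_comm v₁ v₂)]
  have hKW : ∀ g ∈ K, ∃ a' : oG QU, a'.1 u = u ∧ g = hF.lp (a', 1) := by
    let R : Subgroup (oG Q) := (MulAction.stabilizer (oG QU) u).map (hF.lp.comp (MonoidHom.inl _ _))
    have hin : ∀ (g : oG Q), (∃ a' : oG QU, a'.1 u = u ∧ g = hF.lp (a', 1)) → g ∈ R := fun g ⟨a', h1, h2⟩ =>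
      ⟨a', h1, h2.symm⟩
    suffices hle : K ≤ R by
      intro g hg
      obtain ⟨a', h1, h2⟩ := hle hg
      exact ⟨a', h1, h2.symm⟩
    have haK := hnorm _ hC.c1
    have hbK := hnorm _ hC.c2
    have hcopp : Nat.Coprime p (Nat.card K) := (Fact.out : p.Prime).coprime_iff_not_dvd.2 hcop
    have hcl : IsPGroup p (Subgroup.closure ({a, b} : Set (oG Q))) := by
      intro g
      refine ⟨1, Subtype.ext ?_⟩
      have hg : g.1 ^ p = 1 ∧ Commute g.1 a ∧ Commute g.1 b := by
        refine Subgroup.closure_induction (p := fun y _ => y ^ p = 1 ∧ Commute y a ∧ Commute y b) ?_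
          ⟨one_pow p, Commute.one_left a, Commute.one_left b⟩ ?_ ?_ g.2
        · rintro y (rfl | rfl)
          · exact ⟨hF.sW_pow hC.hc hC.c1, Commute.refl _, hab⟩
          · exact ⟨hF.sW_pow hC.hc hC.c2, hab.symm, Commute.refl _⟩
        · rintro y z hy hz ⟨ey, ya, yb⟩ ⟨ez, za, zb⟩
          refine ⟨?_, ya.mul_left za, yb.mul_left zb⟩
          have hyz : Commute y z := by
            refine Subgroup.closure_induction (p := fun z _ => Commute y z) ?_ (Commute.one_right y)
              (fun _ _ _ _ h1 h2 => h1.mul_right h2) (fun _ _ h => h.inv_right) hz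
            rintro w (rfl | rfl)
            · exact ya
            · exact yb
          rw [hyz.mul_pow, ey, ez, one_mul]
        · rintro y _ ⟨ey, ya, yb⟩
          exact ⟨by rw [inv_pow, ey, inv_one], ya.inv_left, yb.inv_left⟩
      rw [pow_one]
      exact hg.1
    obtain ⟨n, hn⟩ := IsPGroup.iff_card.1 hcl
    refine Coprime.le_of_centralizers_le hab haK hbK (Fact.out : p.Prime) ?_ ?_ hcopp
      (by rw [hn]; exact Nat.Coprime.pow_left _ hcopp) ?_ fun k => ?_
    · rw [had, hF.sW_pow hC.hc hC.c1]; exact one_mem _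
    · rw [hbd, hF.sW_pow hC.hc hC.c2]; exact one_mem _
    · rintro g ⟨hg, hg'⟩
      exact hin g (hfixed g hg _ hC.c1 hC.q1 (Subgroup.mem_centralizer_singleton_iff.1 hg'))
    · rintro g ⟨hg, hg'⟩
      have hk : QW ((k : F) • v₁ + v₂) ≠ 0 := fun e0 => by
        obtain ⟨r, hr⟩ := Submodule.mem_span_singleton.1 (hF.ellW c _ hC.hc e0
          (by rw [polar_add_right, polar_smul_right, hC.c1, hC.c2, smul_zero, add_zero]) hc0)
        have := congrArg (polar QW v₂) hr
        rw [polar_smul_right, polar_add_right, polar_smul_right, polar_comm QW v₂ c, hC.c2, polar_comm QW v₂ v₁,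
          hC.h12, polar_self', smul_zero, smul_zero, zero_add, eq_comm, mul_eq_zero] at this
        exact hC.q2 (this.resolve_left h2)
      refine hin g (hfixed g hg _ (polar_perp_add (polar_perp_smul hC.c1 (k : F)) hC.c2) hk ?_)
      have e : a ^ k * b = hF.lp (1, sO hC.hc (polar_perp_add (polar_perp_smul hC.c1 (k : F)) hC.c2)) := by
        rw [had, hbd, ← map_pow, ← map_mul, Prod.pow_mk, one_pow, Prod.mk_mul_mk, one_mul, sO_pow, sO_mul]
      rw [← e]
      exact Subgroup.mem_centralizer_singleton_iff.1 hg'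
  -- the action on `u ⊗ W`
  have hb : ∀ w, ∃ w', h.1 (pt u w) = pt u w' := fun w => by
    refine hF.rho_fixed hu ?_
    rw [← oG_mul_apply, ← hcm.eq, oG_mul_apply]
    congr 1
    rw [hF.lp_pt, oG_one_apply, rho_apply, polar_self']
    congr 1
    rw [mul_div_assoc, div_self hu, mul_one, two_smul, add_sub_cancel_right]
  let b₀ : W →ₗ[F] W := (2 * QU u)⁻¹ • (hF.pU u ∘ₗ h.1.toLinearMap ∘ₗ pt u)
  have hb₀ : ∀ w, h.1 (pt u w) = pt u (b₀ w) := fun w => by
    obtain ⟨w', hw'⟩ := hb w
    rw [hw']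
    congr 1
    show w' = (2 * QU u)⁻¹ • hF.pU u (h.1 (pt u w))
    rw [hw', hF.pU_pt, polar_self', inv_smul_smul₀ (mul_ne_zero h2 hu)]
  have hQb : ∀ w, QW (b₀ w) = QW w := fun w => by
    have e := h.2 (pt u w)
    rw [hb₀, hF.Q_pure, hF.Q_pure] at e
    exact mul_left_cancel₀ (mul_ne_zero h2 hu) e
  have hbinj : Function.Injective b₀ := fun x y e => hF.pure_injW hu (h.1.injective (by rw [hb₀, hb₀, e]))
  let β₀ : oG QW := ⟨LinearEquiv.ofInjectiveEndo b₀ hbinj, hQb⟩
  have hβ₀ : ∀ w, h.1 (pt u w) = pt u (β₀.1 w) := hb₀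
  have hd0 : β₀.1 c ≠ 0 := (LinearEquiv.map_eq_zero_iff β₀.1).not.2 hc0
  obtain ⟨β, hβ, s, hs, hβc⟩ := exists_eo_point hF.ndW (by rw [hF.dimW]; omega) hd0 (by rw [β₀.2, hC.hc]) hc0 hC.hc
  rw [eo_eq_commutator hF.ndW (by rw [hF.dimW]; omega) (Or.inl (two_ne_card h2))] at hβ
  have hlβ := hO.lp_memC hF.toCore (one_mem (commutator (oG QU))) hβ
  set h' := hF.lp (1, β) * h with hh'
  have hH' : h' ∈ H := mul_mem hlβ hH
  have hu' : ∀ w, h'.1 (pt u w) = pt u ((β * β₀).1 w) := fun w => by
    rw [hh', oG_mul_apply, hβ₀, hF.lp_pt, oG_one_apply, oG_mul_apply]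
  clear_value h'
  suffices hN : InN pt h'.1 by
    have := (hF.lp_inN (1 : oG QU) β⁻¹).mul hN
    rwa [hh', ← mul_assoc, ← map_mul, Prod.mk_mul_mk, one_mul, inv_mul_cancel, ← Prod.one_eq_mk, map_one, one_mul]
      at this
  set c' := (β * β₀).1 c with hc'
  have hcc : c' ∈ F ∙ c := Submodule.mem_span_singleton.2 ⟨s, hβc.symm⟩
  have hc's : QW c' = 0 := by rw [hc', (β * β₀).2, hC.hc]
  have hv' : polar QW c' ((β * β₀).1 v₁) = 0 := by rw [hc', polar_oG, hC.c1]
  refine hF.inN_of_commute hne hO hH' hc0 hC.hc hC.c1 hc's hv' hC.q1 ?_ hcc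
  set x' := hF.lp (1, sO hc's hv') with hx'
  have hx'H : x' ∈ H := by
    obtain ⟨r, hr⟩ := Submodule.mem_span_singleton.1 hcc
    exact hO.sW_mem4 hF _ _
  set d := h' * a * h'⁻¹ * x'⁻¹ with hd
  have hdK : d ∈ K := by
    refine ⟨mul_mem (mul_mem (mul_mem hH' (hO.sW_mem4 hF hC.hc hC.c1)) (inv_mem hH')) (inv_mem hx'H), fun w => ?_⟩
    have e1 : ∀ w, (h' * a).1 (pt u w) = (x' * h').1 (pt u w) := fun w => by
      rw [oG_mul_apply, oG_mul_apply, had, hF.lp_pt, oG_one_apply, hu', hu', hx', hF.lp_pt, oG_one_apply]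
      congr 1
      simp only [sO_apply, map_add, map_sub, map_smul, polar_oG, (β * β₀).2 v₁, ← hc']
      rw [show polar QW ((β * β₀).1 w) c' = polar QW w c by rw [hc', polar_oG]]
    have e2 : ∀ w, ∃ w', pt u w = (x' * h').1 (pt u w') := fun w => by
      refine ⟨((β * β₀)⁻¹).1 ((sO hc's hv')⁻¹.1 w), ?_⟩
      rw [oG_mul_apply, hu', oG_apply_inv, hx', hF.lp_pt, oG_one_apply, oG_apply_inv]
    obtain ⟨w', hw'⟩ := e2 w
    conv_lhs => rw [hw', ← oG_mul_apply, show d * (x' * h') = h' * a by rw [hd]; group, e1]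
    exact hw'.symm
  obtain ⟨a', ha'u, ha'⟩ := hKW d hdK
  have hcom : Commute d x' := by
    show d * x' = x' * d
    rw [ha', hx', ← map_mul, ← map_mul, Prod.mk_mul_mk, Prod.mk_mul_mk, one_mul, mul_one, one_mul, mul_one]
  have hpow : d ^ p = 1 := by
    have e : (d * x') ^ p = 1 := by
      rw [show d * x' = h' * a * h'⁻¹ by rw [hd]; group, conj_pow, hF.sW_pow hC.hc hC.c1]
      group
    rwa [hcom.mul_pow, hx', hF.sW_pow hc's hv', mul_one] at e
  have : a' ^ p ^ 1 = 1 := hF.lp_one_inj (by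
    rw [show ((a' ^ p ^ 1, 1) : oG QU × oG QW) = (a', 1) ^ p by simp, map_pow, ← ha', hpow, ← map_one hF.lp,
      Prod.one_eq_mk])
  have hd1 : d = 1 := by rw [ha', hF.unip_fix hu ha'u this, ← Prod.one_eq_mk, map_one]
  have e3 : h' * a = d * (x' * h') := by rw [hd]; group
  rwa [hd1, one_mul] at e3

end Frame4

end Cfsg.Agent.ClassicalMax.OTensor
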